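import Cfsg.Agent.Lib.GroupB.Subnormal
import Cfsg.Agent.Lib.Core
import Cfsg.Prelude.Def_OddOrderLocal

/-! Subnormal subgroups and cores. -/

set_option autoImplicit false

namespace CfsgLib.GroupB.Cores

open Subgroup

universe u

theorem piCore_spec {G : Type u} [Group G] [Finite G] (π : Set ℕ) :
    ∀ p : ℕ, p.Prime → p ∣ Nat.card (Cfsg.piCore π G) → p ∈ π := by
  refine Core.sSup_normal_induction (P := fun K => ∀ p : ℕ, p.Prime → p ∣ Nat.card K → p ∈ π) ?_ ?_ _
    (fun _ h => h.1) (fun _ h => h.2)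
  · intro p hp hd; exact absurd (by simpa using hd) hp.not_dvd_one
  · intro A B _ hB hA hB' p hp hd
    haveI := hB
    exact (hp.dvd_mul.mp (hd.trans (Core.card_sup_dvd_of_normal A B))).elim (hA p hp) (hB' p hp)

theorem piCore_map_equiv {G : Type u} [Group G] [Finite G] (π : Set ℕ) (e : G ≃* G) :
    (Cfsg.piCore π G).map e.toMonoidHom = Cfsg.piCore π G := by
  have h1 : (Cfsg.piCore π G).map e.toMonoidHom ≤ Cfsg.piCore π G := by
    refine le_sSup ⟨(inferInstance : (Cfsg.piCore π G).Normal).map _ e.surjective, fun p hp hd => ?_⟩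
    rw [← Nat.card_congr ((Cfsg.piCore π G).equivMapOfInjective _ e.injective).toEquiv] at hd
    exact piCore_spec π p hp hd
  exact Subgroup.eq_of_le_of_card_ge h1 (le_of_eq (Nat.card_congr ((Cfsg.piCore π G).equivMapOfInjective _ e.injective).toEquiv))

theorem piCore_characteristic {G : Type u} [Group G] [Finite G] (π : Set ℕ) : (Cfsg.piCore π G).Characteristic :=
  Subgroup.characteristic_iff_map_eq.mpr (piCore_map_equiv π)

theorem subnormal_aux (n : ℕ) : ∀ (G : Type u) [Group G] [Finite G], Nat.card G = n →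
    ∀ A : Subgroup G, A.IsSubnormal →
      (Group.IsNilpotent A → A ≤ Cfsg.fittingSubgroup G) ∧
        ∀ π : Set ℕ, (∀ p : ℕ, p.Prime → p ∣ Nat.card A → p ∈ π) → A ≤ Cfsg.piCore π G := by
  induction n using Nat.strong_induction_on with
  | _ n ih =>
    intro G _ _ hn A hA
    rcases hA.lt_normal with rfl | ⟨N, hN, hAN, hlt⟩
    · exact ⟨fun h => Core.le_fittingSubgroup inferInstance h, fun π h => le_sSup ⟨inferInstance, h⟩⟩
    haveI := hN
    have hcard : Nat.card N < n :=
      hn ▸ lt_of_le_of_ne (card_le_card_group N) fun e => hlt.ne (eq_top_of_card_eq N e)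
    obtain ⟨h1, h2⟩ := ih _ hcard N rfl (A.subgroupOf N) (Subnormal.subgroupOf hA N)
    have e := subgroupOfEquivOfLe hAN
    have hmap : (A.subgroupOf N).map N.subtype = A := by
      rw [subgroupOf_map_subtype, inf_eq_left.mpr hAN]
    refine ⟨fun hnil => ?_, fun π hπ => ?_⟩
    · haveI := hnil
      have hle := h1 (Group.nilpotent_of_mulEquiv e.symm)
      haveI := Core.fittingSubgroup_characteristic (G := N)
      haveI := Core.isNilpotent_fittingSubgroup (G := N)
      calc A = (A.subgroupOf N).map N.subtype := hmap.symm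
        _ ≤ (Cfsg.fittingSubgroup N).map N.subtype := map_mono hle
        _ ≤ _ := Core.le_fittingSubgroup inferInstance
            (Group.nilpotent_of_mulEquiv ((Cfsg.fittingSubgroup N).equivMapOfInjective _ N.subtype_injective))
    · have hle := h2 π (by rw [Nat.card_congr e.toEquiv]; exact hπ)
      haveI := piCore_characteristic (G := N) π
      calc A = (A.subgroupOf N).map N.subtype := hmap.symm
        _ ≤ (Cfsg.piCore π N).map N.subtype := map_mono hle
        _ ≤ _ := le_sSup (show _ ∈ {M : Subgroup G | M.Normal ∧ ∀ p : ℕ, p.Prime → p ∣ Nat.card M → p ∈ π} from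
            ⟨inferInstance, fun p hp hd => piCore_spec (G := N) π p hp (by
              rwa [← Nat.card_congr ((Cfsg.piCore π N).equivMapOfInjective _ N.subtype_injective).toEquiv] at hd)⟩)

variable {G : Type u} [Group G] [Finite G]

theorem subnormal_le_fitting {A : Subgroup G} (hA : A.IsSubnormal) (h : Group.IsNilpotent A) :
    A ≤ Cfsg.fittingSubgroup G := (subnormal_aux _ G rfl A hA).1 h

theorem subnormal_le_piCore {A : Subgroup G} (hA : A.IsSubnormal) {π : Set ℕ}
    (h : ∀ p : ℕ, p.Prime → p ∣ Nat.card A → p ∈ π) : A ≤ Cfsg.piCore π G := (subnormal_aux _ G rfl A hA).2 π h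

theorem subnormal_of_le_fitting {A : Subgroup G} (h : A ≤ Cfsg.fittingSubgroup G) : A.IsSubnormal := by
  haveI := Core.isNilpotent_fittingSubgroup (G := G)
  exact Subnormal.of_subgroupOf (Normal.isSubnormal Core.fittingSubgroup_normal) h (Subnormal.of_isNilpotent _)

/-- A finite subgroup lies in `K` as soon as all its Sylow subgroups do. -/
theorem le_of_sylow {A K : Subgroup G}
    (h : ∀ (p : ℕ) [Fact p.Prime] (P : Sylow p A), (P : Subgroup A).map A.subtype ≤ K) : A ≤ K := by
  refine Subgroup.subgroupOf_eq_top.mp (Subgroup.eq_top_of_card_eq _ ?_)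
  refine Nat.dvd_antisymm (Subgroup.card_subgroup_dvd_card _) ((Nat.dvd_iff_prime_pow_dvd_dvd _ _).mpr fun p k hp hk => ?_)
  haveI := Fact.mk hp
  let P : Sylow p A := default
  exact (P.pow_dvd_card_of_pow_dvd_card hk).trans
    (Subgroup.card_dvd_of_le fun x hx => h p P ⟨x, hx, rfl⟩)

end CfsgLib.GroupB.Cores
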