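import Mathlib.GroupTheory.OrderOfElement
import Mathlib.GroupTheory.GroupAction.Quotient
import Mathlib.GroupTheory.Coset.Card
import Mathlib.Algebra.Group.Conj
import Mathlib.GroupTheory.GroupAction.ConjAct
import Mathlib.GroupTheory.SpecificGroups.Cyclic
import Mathlib.Data.Nat.Factorization.Basic
import Mathlib.Algebra.BigOperators.Ring.Finset
import Mathlib.GroupTheory.Perm.Cycle.Type
import Mathlib.Tactic

/-! Frobenius' theorem on the number of solutions of `x ^ n ∈ C`. -/

set_option autoImplicit false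

namespace CfsgLib.GroupB.FrobDiv

universe u

variable {G : Type u} [Group G]

/-- The number of `n`-th roots of `c`. -/
noncomputable def rootCount (c : G) (n : ℕ) : ℕ := Nat.card {x : G // x ^ n = c}

theorem rootCount_conj (c g : G) (n : ℕ) : rootCount (g * c * g⁻¹) n = rootCount c n := by
  refine (Nat.card_congr ((MulAut.conj g).toEquiv.subtypeEquiv fun x => ?_)).symm
  show x ^ n = c ↔ (g * x * g⁻¹) ^ n = g * c * g⁻¹
  rw [conj_pow]
  simp

theorem card_isConj (c : G) [Finite G] :
    Nat.card {y : G // IsConj c y} = (Subgroup.centralizer ({c} : Set G)).index := by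
  have h := MulAction.index_stabilizer (ConjAct G) c
  rw [ConjAct.stabilizer_eq_centralizer, ConjAct.orbit_eq_carrier_conjClasses, ← Nat.card_coe_set_eq] at h
  refine Eq.trans ?_ h.symm
  exact Nat.card_congr (Equiv.subtypeEquivRight fun y => by
    rw [ConjClasses.mem_carrier_iff_mk_eq, ConjClasses.mk_eq_mk_iff_isConj]; exact isConj_comm)

theorem card_class_mul_centralizer (c : G) [Finite G] :
    Nat.card {y : G // IsConj c y} * Nat.card (Subgroup.centralizer ({c} : Set G)) = Nat.card G := by
  rw [card_isConj, Subgroup.index_mul_card]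

theorem card_roots_class [Finite G] (c : G) (n : ℕ) :
    Nat.card {x : G // IsConj c (x ^ n)} = Nat.card {y : G // IsConj c y} * rootCount c n := by
  classical
  haveI := Fintype.ofFinite G
  have e : {x : G // IsConj c (x ^ n)} ≃ Σ y : {y : G // IsConj c y}, {x : G // x ^ n = (y : G)} :=
    { toFun := fun x => ⟨⟨x.1 ^ n, x.2⟩, ⟨x.1, rfl⟩⟩
      invFun := fun p => ⟨p.2.1, by rw [p.2.2]; exact p.1.2⟩
      left_inv := fun x => rfl
      right_inv := fun ⟨⟨y, hy⟩, ⟨x, hx⟩⟩ => by
        have hx' : x ^ n = y := hx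
        subst hx'
        rfl }
  rw [Nat.card_congr e, Nat.card_sigma, Finset.sum_congr rfl fun y _ => ?_, Finset.sum_const,
    Finset.card_univ, ← Nat.card_eq_fintype_card, smul_eq_mul]
  obtain ⟨g, hg⟩ := isConj_iff.mp y.2
  show rootCount (y : G) n = _
  rw [← hg, rootCount_conj]

theorem rootCount_centralizer (c : G) (n : ℕ) :
    rootCount c n = rootCount (⟨c, Subgroup.mem_centralizer_singleton_iff.mpr rfl⟩ :
      Subgroup.centralizer ({c} : Set G)) n := by
  refine Nat.card_congr
    { toFun := fun x => ⟨⟨x.1, Subgroup.mem_centralizer_singleton_iff.mpr ?_⟩, Subtype.ext x.2⟩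
      invFun := fun x => ⟨x.1.1, congrArg Subtype.val x.2⟩
      left_inv := fun x => rfl
      right_inv := fun x => rfl }
  exact ((Commute.refl x.1).pow_right n |>.eq).trans rfl |> fun h => by rw [x.2] at h; exact h

/-- In a cyclic group `x` generates, the roots of `x ^ n` are `n` in number. -/
theorem dvd_rootCount_of_primes [Finite G] (c : G) (n : ℕ) (hn : 0 < n)
    (h : ∀ q : ℕ, q.Prime → q ∣ n → q ∣ orderOf c) : n ∣ rootCount c n := by
  classical
  let m := orderOf c
  have hord : ∀ x : G, x ^ n = c → orderOf x = n * m := by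
    intro x hx
    have h1 : orderOf c = orderOf x / Nat.gcd (orderOf x) n := hx ▸ orderOf_pow x
    have hd : n ∣ orderOf x := by
      rw [Nat.dvd_iff_prime_pow_dvd_dvd]
      intro q k hq hqk
      by_contra hqx
      rcases Nat.eq_zero_or_pos k with rfl | hk
      · exact hqx (by simp)
      have hqm : q ∣ orderOf c := h q hq ((dvd_pow_self q hk.ne').trans hqk)
      let v := (orderOf x).factorization q
      have hv : v < k := by
        by_contra hle
        exact hqx ((Nat.pow_dvd_pow q (not_lt.mp hle)).trans (Nat.ordProj_dvd _ _))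
      have hg : q ^ v ∣ Nat.gcd (orderOf x) n :=
        Nat.dvd_gcd (Nat.ordProj_dvd _ _) ((Nat.pow_dvd_pow q hv.le).trans hqk)
      rw [h1] at hqm
      obtain ⟨t, ht⟩ := Nat.gcd_dvd_left (orderOf x) n
      rw [Nat.div_eq_of_eq_mul_right (Nat.gcd_pos_of_pos_right _ hn) ht] at hqm
      have : q ^ (v + 1) ∣ orderOf x := by
        rw [ht, pow_succ]
        exact Nat.mul_dvd_mul hg hqm
      have := (hq.pow_dvd_iff_le_factorization (orderOf_pos x).ne').mp this
      omega
    rw [Nat.gcd_eq_right hd] at h1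
    show orderOf x = n * orderOf c
    rw [h1, Nat.mul_div_cancel' hd]
  -- classes `x ⟨x ^ m⟩`
  let cls : {x : G // x ^ n = c} → Subgroup G × Set G :=
    fun x => (Subgroup.zpowers (x.1 : G), (fun u => x.1 * u) '' (Subgroup.zpowers (x.1 ^ m) : Set G))
  have hsub : ∀ x : {x : G // x ^ n = c}, ∀ u ∈ Subgroup.zpowers (x.1 ^ m), (x.1 * u) ^ n = c := by
    intro x u hu
    obtain ⟨k, rfl⟩ := Subgroup.mem_zpowers_iff.mp hu
    rw [((Commute.refl x.1).pow_right m |>.zpow_right k).mul_pow, x.2, ← zpow_natCast ((x.1 ^ m) ^ k) n,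
      ← zpow_mul, mul_comm, zpow_mul, zpow_natCast, ← pow_mul, mul_comm m n, ← hord x.1 x.2,
      pow_orderOf_eq_one, one_zpow, mul_one]
  have hfib : ∀ x₀ : {x : G // x ^ n = c}, Nat.card {x : {x : G // x ^ n = c} // cls x = cls x₀} = n := by
    intro x₀
    have hsame : ∀ u ∈ Subgroup.zpowers (x₀.1 ^ m), ∀ hx : (x₀.1 * u) ^ n = c, cls ⟨x₀.1 * u, hx⟩ = cls x₀ := by
      intro u hu hx
      have hz : Subgroup.zpowers (x₀.1 * u) = Subgroup.zpowers x₀.1 := by
        refine Subgroup.eq_of_le_of_card_ge (Subgroup.zpowers_le.mpr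
          (Subgroup.mul_mem _ (Subgroup.mem_zpowers _)
            ((Subgroup.zpowers_le.mpr (Subgroup.pow_mem _ (Subgroup.mem_zpowers x₀.1) m)) hu))) ?_
        rw [Nat.card_zpowers, Nat.card_zpowers, hord _ hx, hord _ x₀.2]
      have hz' : Subgroup.zpowers ((x₀.1 * u) ^ m) = Subgroup.zpowers (x₀.1 ^ m) := by
        obtain ⟨k, hk⟩ := Subgroup.mem_zpowers_iff.mp (hz ▸ Subgroup.mem_zpowers (x₀.1 * u) : x₀.1 * u ∈ Subgroup.zpowers x₀.1)
        refine Subgroup.eq_of_le_of_card_ge (Subgroup.zpowers_le.mpr ?_) ?_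
        · rw [← hk, ← zpow_natCast (x₀.1 ^ k) m, ← zpow_mul, mul_comm, zpow_mul, zpow_natCast]
          exact Subgroup.zpow_mem _ (Subgroup.mem_zpowers _) k
        · rw [Nat.card_zpowers, Nat.card_zpowers, orderOf_pow, orderOf_pow, hord _ hx, hord _ x₀.2]
      refine Prod.ext hz ?_
      show (fun v => x₀.1 * u * v) '' (Subgroup.zpowers ((x₀.1 * u) ^ m) : Set G) = _
      rw [hz']
      ext y
      constructor
      · rintro ⟨v, hv, rfl⟩
        exact ⟨u * v, Subgroup.mul_mem _ hu hv, (mul_assoc _ _ _).symm⟩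
      · rintro ⟨v, hv, rfl⟩
        exact ⟨u⁻¹ * v, Subgroup.mul_mem _ (Subgroup.inv_mem _ hu) hv, by simp [mul_assoc]⟩
    have hcard : Nat.card (Subgroup.zpowers (x₀.1 ^ m)) = n := by
      rw [Nat.card_zpowers, orderOf_pow, hord x₀.1 x₀.2, Nat.gcd_mul_left_left,
        Nat.mul_div_cancel _ (orderOf_pos c)]
    conv_rhs => rw [← hcard]
    refine Nat.card_congr
      { toFun := fun x => ⟨x₀.1⁻¹ * x.1.1, ?_⟩
        invFun := fun u => ⟨⟨x₀.1 * u.1, hsub x₀ u.1 u.2⟩, hsame u.1 u.2 (hsub x₀ u.1 u.2)⟩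
        left_inv := fun x => Subtype.ext (Subtype.ext (mul_inv_cancel_left _ _))
        right_inv := fun u => Subtype.ext (inv_mul_cancel_left _ _) }
    have hmem : x.1.1 ∈ (fun u => x₀.1 * u) '' (Subgroup.zpowers (x₀.1 ^ m) : Set G) := by
      have := congrArg Prod.snd x.2
      simp only [cls] at this
      rw [← this]
      exact ⟨1, Subgroup.one_mem _, mul_one _⟩
    obtain ⟨v, hv, hvx⟩ := hmem
    rw [← hvx]
    simpa using hv
  haveI := Fintype.ofFinite {x : G // x ^ n = c}
  rw [rootCount, Nat.card_eq_fintype_card, ← Finset.card_univ,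
    Finset.card_eq_sum_card_image cls Finset.univ]
  refine Finset.dvd_sum fun b hb => ?_
  obtain ⟨x₀, -, rfl⟩ := Finset.mem_image.mp hb
  rw [← Fintype.card_subtype, ← Nat.card_eq_fintype_card, hfib]

theorem rootCount_central [Finite G] {c : G} (hc : c ∈ Subgroup.center G) (n : ℕ)
    (h : (orderOf c).Coprime n) : rootCount c n = rootCount (1 : G) n := by
  obtain ⟨j, hj⟩ := exists_pow_eq_self_of_coprime (n := n) (x := c) h.symm
  have hd : c ^ j ∈ Subgroup.center G := Subgroup.pow_mem _ hc j
  have hdn : (c ^ j) ^ n = c := by rw [← pow_mul, mul_comm, pow_mul]; exact hj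
  refine Nat.card_congr ((Equiv.mulRight (c ^ j)⁻¹).subtypeEquiv fun x => ?_)
  show x ^ n = c ↔ (x * (c ^ j)⁻¹) ^ n = 1
  rw [((show Commute x (c ^ j) from Subgroup.mem_center_iff.mp hd x).inv_right).mul_pow,
    inv_pow, hdn, mul_inv_eq_one]

theorem frobenius_aux (N : ℕ) : ∀ (G : Type u) [Group G] [Finite G], Nat.card G = N →
    ∀ (n : ℕ) (c : G), Nat.gcd (Nat.card {y : G // IsConj c y} * n) (Nat.card G) ∣
      Nat.card {x : G // IsConj c (x ^ n)} := by
  induction N using Nat.strong_induction_on with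
  | _ N ihN =>
  intro G _ _ hN n
  subst hN
  induction n using Nat.strong_induction_on with
  | _ n ihn =>
  classical
  haveI := Fintype.ofFinite G
  -- non-central classes
  have hnoncentral : ∀ c : G, c ∉ Subgroup.center G →
      Nat.gcd (Nat.card {y : G // IsConj c y} * n) (Nat.card G) ∣ Nat.card {x : G // IsConj c (x ^ n)} := by
    intro c hc
    rw [card_roots_class]
    conv_lhs => rw [← card_class_mul_centralizer c, Nat.gcd_mul_left]
    refine Nat.mul_dvd_mul_left _ ?_
    let C := Subgroup.centralizer ({c} : Set G)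
    have hlt : Nat.card C < Nat.card G := by
      refine lt_of_le_of_ne (Subgroup.card_le_card_group _) fun h => hc ?_
      rw [Subgroup.mem_center_iff]
      intro x
      have hx : x ∈ C := by rw [Subgroup.eq_top_of_card_eq C h]; exact Subgroup.mem_top x
      exact Subgroup.mem_centralizer_singleton_iff.mp hx
    let c' : C := ⟨c, Subgroup.mem_centralizer_singleton_iff.mpr rfl⟩
    have hone : Nat.card {y : C // IsConj c' y} = 1 := by
      rw [Nat.card_eq_one_iff_unique]
      refine ⟨⟨fun a b => Subtype.ext ?_⟩, ⟨⟨c', IsConj.refl _⟩⟩⟩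
      have key : ∀ a : C, IsConj c' a → a = c' := by
        intro a ha
        obtain ⟨g, hg⟩ := isConj_iff.mp ha
        rw [← hg]
        apply Subtype.ext
        show (g : G) * c * (g : G)⁻¹ = c
        rw [Subgroup.mem_centralizer_singleton_iff.mp g.2, mul_inv_cancel_right]
      rw [key a.1 a.2, key b.1 b.2]
    have := ihN _ hlt C rfl n c'
    rw [card_roots_class, hone, one_mul, one_mul, ← rootCount_centralizer] at this
    exact this
  intro c
  by_cases hc : c ∈ Subgroup.center G
  swap; · exact hnoncentral c hc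
  have hconj : ∀ z ∈ Subgroup.center G, ∀ y : G, IsConj z y ↔ y = z := by
    intro z hz y
    refine ⟨fun h => ?_, fun h => h ▸ IsConj.refl _⟩
    obtain ⟨g, hg⟩ := isConj_iff.mp h
    rw [← hg, Subgroup.mem_center_iff.mp hz g, mul_inv_cancel_right]
  have hsimp : ∀ z ∈ Subgroup.center G, Nat.card {y : G // IsConj z y} = 1 := by
    intro z hz
    rw [Nat.card_eq_one_iff_unique]
    exact ⟨⟨fun a b => Subtype.ext (((hconj z hz _).mp a.2).trans ((hconj z hz _).mp b.2).symm)⟩, ⟨⟨z, IsConj.refl _⟩⟩⟩
  rw [hsimp c hc, one_mul, card_roots_class, hsimp c hc, one_mul]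
  -- decomposition along `x ↦ x ^ n₁`
  have hsplit : ∀ n₁ n₂ : ℕ, n = n₁ * n₂ → n₂ < n → Nat.gcd n₂ (Nat.card G) ∣ rootCount c n := by
    intro n₁ n₂ he hlt
    haveI : Finite (ConjClasses G) := Finite.of_surjective _ ConjClasses.mk_surjective
    haveI : Fintype {C : ConjClasses G // ∃ y ∈ C.carrier, y ^ n₁ = c} := Fintype.ofFinite _
    have e : {x : G // x ^ n = c} ≃ Σ C : {C : ConjClasses G // ∃ y ∈ C.carrier, y ^ n₁ = c},
        {x : G // ConjClasses.mk (x ^ n₂) = C.1} :=
      { toFun := fun x => ⟨⟨ConjClasses.mk (x.1 ^ n₂), x.1 ^ n₂, ConjClasses.mem_carrier_mk,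
          by rw [← pow_mul, mul_comm, ← he]; exact x.2⟩, ⟨x.1, rfl⟩⟩
        invFun := fun p => ⟨p.2.1, by
          obtain ⟨y, hy, hyc⟩ := p.1.2
          rw [ConjClasses.mem_carrier_iff_mk_eq] at hy
          obtain ⟨g, hg⟩ := isConj_iff.mp (ConjClasses.mk_eq_mk_iff_isConj.mp (p.2.2.trans hy.symm))
          rw [he, mul_comm, pow_mul]
          have h2 : (g * p.2.1 ^ n₂ * g⁻¹) ^ n₁ = c := by rw [hg]; exact hyc
          rw [conj_pow] at h2
          have h4 := mul_inv_eq_iff_eq_mul.mp h2
          rw [← Subgroup.mem_center_iff.mp hc g] at h4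
          exact mul_left_cancel h4⟩
        left_inv := fun x => rfl
        right_inv := fun ⟨⟨C, hC⟩, ⟨x, hx⟩⟩ => by
          have hx' : ConjClasses.mk (x ^ n₂) = C := hx
          subst hx'
          rfl }
    rw [rootCount, Nat.card_congr e, Nat.card_sigma]
    refine Finset.dvd_sum fun C _ => ?_
    obtain ⟨y, hy⟩ := ConjClasses.exists_rep C.1
    have h := ihn n₂ hlt y
    refine (Nat.dvd_trans ?_ h).trans (dvd_of_eq ?_)
    · exact Nat.dvd_gcd ((Nat.gcd_dvd_left _ _).trans (Dvd.intro_left _ rfl)) (Nat.gcd_dvd_right _ _)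
    · refine Nat.card_congr (Equiv.subtypeEquivRight fun x => ?_)
      rw [← hy, ← ConjClasses.mk_eq_mk_iff_isConj]
      exact eq_comm
  rcases Nat.eq_zero_or_pos n with rfl | hnpos
  · rw [Nat.gcd_zero_left]
    by_cases hc1 : c = 1
    · subst hc1
      simp [rootCount]
    · have : rootCount c 0 = 0 := by
        rw [rootCount, Nat.card_eq_zero]
        exact Or.inl ⟨fun x => hc1 (x.2.symm.trans (pow_zero _))⟩
      rw [this]; exact dvd_zero _
  by_cases hpp : n = 1
  · subst hpp; simp
  let p := n.minFac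
  have hp : p.Prime := Nat.minFac_prime hpp
  by_cases hpow : n = p ^ n.factorization p
  swap
  · -- two coprime factors
    have hpn : p ∣ n := Nat.minFac_dvd n
    have h1 : 1 < p ^ n.factorization p :=
      Nat.one_lt_pow ((hp.dvd_iff_one_le_factorization hnpos.ne').mp hpn |> Nat.one_le_iff_ne_zero.mp) hp.one_lt
    have hmul := Nat.ordProj_mul_ordCompl_eq_self n p
    have hcop : (p ^ n.factorization p).Coprime (n / p ^ n.factorization p) :=
      (Nat.coprime_ordCompl hp hnpos.ne').pow_left _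
    have h2 : 1 < n / p ^ n.factorization p := by
      have h0 : 0 < n / p ^ n.factorization p := Nat.ordCompl_pos p hnpos.ne'
      by_contra hle
      have : n / p ^ n.factorization p = 1 := by omega
      rw [this, mul_one] at hmul
      exact hpow hmul.symm
    have hlt1 : p ^ n.factorization p < n := by
      calc p ^ n.factorization p < p ^ n.factorization p * (n / p ^ n.factorization p) :=
            lt_mul_of_one_lt_right (by omega) h2
        _ = n := hmul
    have hlt2 : n / p ^ n.factorization p < n := by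
      calc n / p ^ n.factorization p < p ^ n.factorization p * (n / p ^ n.factorization p) :=
            lt_mul_of_one_lt_left (by omega) h1
        _ = n := hmul
    have ha := hsplit (n / p ^ n.factorization p) (p ^ n.factorization p) (by rw [mul_comm]; exact hmul.symm) hlt1
    have hb := hsplit (p ^ n.factorization p) (n / p ^ n.factorization p) hmul.symm hlt2
    conv_lhs => rw [← hmul]
    rw [Nat.gcd_comm, Nat.Coprime.gcd_mul _ hcop, Nat.gcd_comm (Nat.card G), Nat.gcd_comm (Nat.card G)]
    exact Nat.Coprime.mul_dvd_of_dvd_of_dvd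
      (Nat.Coprime.coprime_dvd_left (Nat.gcd_dvd_left _ _) (Nat.Coprime.coprime_dvd_right (Nat.gcd_dvd_left _ _) hcop))
      ha hb
  have hcase : ∀ z : G, p ∣ orderOf z → Nat.gcd n (Nat.card G) ∣ rootCount z n := by
    intro z hz
    refine (Nat.gcd_dvd_left _ _).trans (dvd_rootCount_of_primes z n hnpos fun q hq hqn => ?_)
    rw [hpow] at hqn
    rwa [(Nat.prime_dvd_prime_iff_eq hq hp).mp (hq.dvd_of_dvd_pow hqn)]
  by_cases hpc : p ∣ orderOf c
  · exact hcase c hpc
  have hcopc : ∀ z : G, ¬ p ∣ orderOf z → (orderOf z).Coprime n := by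
    intro z hz
    rw [hpow]
    exact ((hp.coprime_iff_not_dvd.mpr hz).symm).pow_right _
  -- the central elements of order prime to `p`
  let B : Subgroup G :=
    { carrier := {z | z ∈ Subgroup.center G ∧ ¬ p ∣ orderOf z}
      one_mem' := ⟨Subgroup.one_mem _, by simpa using hp.not_dvd_one⟩
      mul_mem' := fun {a b} ha hb => ⟨Subgroup.mul_mem _ ha.1 hb.1, fun h => by
        have hd := (show Commute a b from (Subgroup.mem_center_iff.mp hb.1 a)).orderOf_mul_dvd_lcm
        exact (hp.dvd_mul.mp ((h.trans hd).trans (Nat.lcm_dvd_mul _ _))).elim ha.2 hb.2⟩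
      inv_mem' := fun {a} ha => ⟨Subgroup.inv_mem _ ha.1, by rw [orderOf_inv]; exact ha.2⟩ }
  have hBcop : ¬ p ∣ Nat.card B := by
    intro hd
    haveI := Fact.mk hp
    obtain ⟨z, hz⟩ := exists_prime_orderOf_dvd_card' (G := B) p hd
    exact z.2.2 (by rw [← Subgroup.orderOf_coe] at hz; rw [hz])
  have htotal : Nat.gcd n (Nat.card G) ∣ Nat.card B * rootCount (1 : G) n := by
    let T : Finset G := Finset.univ.filter fun x => x ^ n ∈ B
    have hTcard : Nat.card B * rootCount (1 : G) n = T.card := by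
      rw [Finset.card_eq_sum_card_fiberwise (f := fun x => x ^ n) (t := Finset.univ.filter fun z => z ∈ B)
        (fun x hx => by simpa [T] using hx), Finset.sum_congr rfl fun z hz => ?_, Finset.sum_const,
        smul_eq_mul, ← Fintype.card_subtype, ← Nat.card_eq_fintype_card]
      simp only [Finset.mem_filter, Finset.mem_univ, true_and] at hz
      rw [← rootCount_central hz.1 n (hcopc z hz.2), rootCount, Nat.card_eq_fintype_card, Fintype.card_subtype]
      congr 1
      ext x
      simp only [T, Finset.mem_filter, Finset.mem_univ, true_and]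
      exact ⟨fun h => h.2, fun h => ⟨h ▸ hz, h⟩⟩
    rw [hTcard]
    have hrest : Nat.gcd n (Nat.card G) ∣ (Tᶜ).card := by
      let f : G → ConjClasses G := fun x => ConjClasses.mk (x ^ n)
      rw [Finset.card_eq_sum_card_image f]
      refine Finset.dvd_sum fun C hC => ?_
      obtain ⟨x₀, hx₀, rfl⟩ := Finset.mem_image.mp hC
      have hz : x₀ ^ n ∉ B := by simpa [T] using hx₀
      have hfil : ((Tᶜ).filter fun x => f x = f x₀) = Finset.univ.filter fun x => IsConj (x₀ ^ n) (x ^ n) := by
        ext x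
        simp only [T, f, Finset.compl_filter, Finset.mem_filter, Finset.mem_univ, true_and,
          ConjClasses.mk_eq_mk_iff_isConj]
        refine ⟨fun h => h.2.symm, fun h => ⟨fun hB => hz ?_, h.symm⟩⟩
        rw [(hconj _ hB.1 (x₀ ^ n)).mp h.symm]; exact hB
      rw [hfil, ← Fintype.card_subtype, ← Nat.card_eq_fintype_card]
      by_cases hzc : x₀ ^ n ∈ Subgroup.center G
      · rw [card_roots_class, hsimp _ hzc, one_mul]
        exact hcase _ (by_contra fun h => hz ⟨hzc, h⟩)
      · exact (Nat.dvd_gcd ((Nat.gcd_dvd_left _ _).trans (Dvd.intro_left _ rfl)) (Nat.gcd_dvd_right _ _)).trans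
          (hnoncentral _ hzc)
    have hsum : T.card + (Tᶜ).card = Nat.card G := by
      rw [Finset.card_add_card_compl, Nat.card_eq_fintype_card]
    exact (Nat.dvd_add_left hrest).mp (hsum ▸ Nat.gcd_dvd_right _ _)
  have hcop' : (Nat.gcd n (Nat.card G)).Coprime (Nat.card B) := by
    refine Nat.Coprime.coprime_dvd_left (Nat.gcd_dvd_left _ _) ?_
    rw [hpow]
    exact (hp.coprime_iff_not_dvd.mpr hBcop).pow_left _
  rw [rootCount_central hc n (hcopc c hpc)]
  exact hcop'.dvd_of_dvd_mul_left htotal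

/-- **Frobenius**: the number of `x` with `x ^ n` conjugate to `c` is divisible by `gcd (h n) |G|`. -/
theorem frobenius [Finite G] (c : G) (n : ℕ) :
    Nat.gcd (Nat.card {y : G // IsConj c y} * n) (Nat.card G) ∣ Nat.card {x : G // IsConj c (x ^ n)} :=
  frobenius_aux _ G rfl n c

/-- **Frobenius**: if `m ∣ |G|` then `m` divides the number of solutions of `x ^ m = 1`. -/
theorem dvd_card_pow_eq_one [Finite G] {m : ℕ} (hm : m ∣ Nat.card G) :
    m ∣ Nat.card {g : G // g ^ m = 1} := by
  have h := frobenius (1 : G) m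
  rw [card_roots_class] at h
  have h1 : Nat.card {y : G // IsConj (1 : G) y} = 1 := by
    rw [Nat.card_eq_one_iff_unique]
    exact ⟨⟨fun a b => Subtype.ext ((isConj_one_right.mp a.2).trans (isConj_one_right.mp b.2).symm)⟩,
      ⟨⟨1, IsConj.refl _⟩⟩⟩
  rw [h1, one_mul, one_mul, Nat.gcd_eq_left hm] at h
  exact h

end CfsgLib.GroupB.FrobDiv
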