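import Cfsg.Prelude.Def_Transfer
import Mathlib

/-! A minimal normal elementary abelian subgroup of prime index. -/

set_option autoImplicit false

namespace CfsgLib.GroupB.IrrPrime

/-- A finite domain in which `r ^ Q = r` has at most `Q` elements. -/
theorem card_le_of_pow_eq {R : Type*} [CommRing R] [IsDomain R] [Finite R] {Q : ℕ} (hQ : 1 < Q)
    (h : ∀ r : R, r ^ Q = r) : Nat.card R ≤ Q := by
  classical
  haveI := Fintype.ofFinite R
  have hlt : (Polynomial.X : Polynomial R).natDegree < (Polynomial.X ^ Q : Polynomial R).natDegree := by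
    rw [Polynomial.natDegree_X, Polynomial.natDegree_X_pow]; exact hQ
  set P : Polynomial R := Polynomial.X ^ Q - Polynomial.X with hP
  have hdeg : P.natDegree = Q := by
    rw [hP, Polynomial.natDegree_sub_eq_left_of_natDegree_lt hlt, Polynomial.natDegree_X_pow]
  have hP0 : P ≠ 0 := fun h0 => by rw [h0, Polynomial.natDegree_zero] at hdeg; omega
  have hsub : (Finset.univ : Finset R).val ⊆ P.roots := by
    intro r _
    rw [Polynomial.mem_roots hP0, Polynomial.IsRoot, hP, Polynomial.eval_sub, Polynomial.eval_pow, Polynomial.eval_X, sub_eq_zero]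
    exact h r
  have := Polynomial.card_le_degree_of_subset_roots hsub
  rw [Nat.card_eq_fintype_card, ← Finset.card_univ, ← hdeg]
  exact this

variable {G : Type*} [Group G] [Finite G] {p q : ℕ}

/-- Structure of a non-abelian group with a minimal normal elementary abelian `q`-subgroup of prime index `p ≠ q`. -/
theorem structure_irr [hp : Fact p.Prime] (hq : q.Prime) (hpq : q ≠ p) (hna : ¬ IsMulCommutative G)
    (A : Subgroup G) [hAn : A.Normal] (hA : Cfsg.IsElementaryAbelian q A) (hidx : A.index = p)
    (hmin : ∀ B : Subgroup G, B.Normal → B ≤ A → B = ⊥ ∨ B = A) :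
    Nat.card A = q ^ orderOf (q : ZMod p) ∧
      (∀ y : G, y ∉ A → ∀ a ∈ A, y * a * y⁻¹ = a → a = 1) := by
  classical
  haveI := Fact.mk hq
  have hcomm : ∀ u ∈ A, ∀ v ∈ A, u * v = v * u := fun u hu v hv =>
    congrArg Subtype.val (hA.1.is_comm.comm (⟨u, hu⟩ : A) ⟨v, hv⟩)
  have hqA : IsPGroup q A := fun a => ⟨1, by
    rw [pow_one]; exact Subtype.ext (by rw [SubgroupClass.coe_pow]; exact hA.2 a a.2)⟩
  obtain ⟨k, hk⟩ := hqA.exists_card_eq
  have hgen : ∀ y, y ∉ A → A ⊔ Subgroup.zpowers y = ⊤ := by
    intro y hy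
    have h := Subgroup.index_dvd_of_le (le_sup_left : A ≤ A ⊔ Subgroup.zpowers y)
    rw [hidx] at h
    rcases (Nat.dvd_prime hp.out).mp h with h1 | h1
    · exact Subgroup.index_eq_one.mp h1
    · exfalso
      apply hy
      have h2 : A.relIndex (A ⊔ Subgroup.zpowers y) = 1 := by
        have h3 := Subgroup.relIndex_mul_index (le_sup_left : A ≤ A ⊔ Subgroup.zpowers y)
        rw [h1, hidx] at h3
        exact mul_eq_right₀ hp.out.ne_zero |>.mp h3
      exact Subgroup.relIndex_eq_one.mp h2 (Subgroup.mem_sup_right (Subgroup.mem_zpowers y))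
  -- subgroups of `A` invariant under an element outside `A`
  have hinv : ∀ y, y ∉ A → ∀ B : Subgroup G, B ≤ A → (∀ b ∈ B, y * b * y⁻¹ ∈ B) → B = ⊥ ∨ B = A := by
    intro y hy B hBA hB
    refine hmin B ?_ hBA
    rw [← Subgroup.normalizer_eq_top_iff, eq_top_iff, ← hgen y hy, sup_le_iff]
    constructor
    · intro a ha
      rw [Subgroup.mem_normalizer_iff]
      intro b
      constructor
      · intro hb; show a * b * a⁻¹ ∈ B; rw [hcomm a ha b (hBA hb), mul_inv_cancel_right]; exact hb
      · intro hb
        have h1 : a⁻¹ * (a * b * a⁻¹) * a = a * b * a⁻¹ := by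
          rw [hcomm _ (A.inv_mem ha) _ (hBA hb), inv_mul_cancel_right]
        rw [show a⁻¹ * (a * b * a⁻¹) * a = b by group] at h1
        rw [h1]; exact hb
    · rw [Subgroup.zpowers_le, Subgroup.mem_normalizer_iff]
      intro b
      refine ⟨hB b, fun hb => ?_⟩
      have hfin : Finite B := inferInstance
      let f : B → B := fun c => ⟨y * c * y⁻¹, hB c c.2⟩
      have hf : Function.Injective f := fun c d h => Subtype.ext (by simpa [f] using congrArg Subtype.val h)
      obtain ⟨c, hc⟩ := (Finite.injective_iff_surjective.mp hf) ⟨_, hb⟩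
      have : (c : G) = b := by simpa [f] using congrArg Subtype.val hc
      exact this ▸ c.2
  have hfix : ∀ y : G, y ∉ A → ∀ a ∈ A, y * a * y⁻¹ = a → a = 1 := by
    intro y hy a ha h
    rcases hinv y hy (A ⊓ Subgroup.centralizer ({y} : Set G)) inf_le_left (fun b hb => by
      have := Subgroup.mem_centralizer_singleton_iff.mp hb.2
      rw [show y * b * y⁻¹ = b by rw [← this, mul_inv_cancel_right]]; exact hb) with h1 | h1
    · have : a ∈ A ⊓ Subgroup.centralizer ({y} : Set G) :=
        ⟨ha, Subgroup.mem_centralizer_singleton_iff.mpr (mul_inv_eq_iff_eq_mul.mp h).symm⟩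
      rwa [h1, Subgroup.mem_bot] at this
    · exfalso
      apply hna
      have hAy : ∀ b ∈ A, b * y = y * b := fun b hb =>
        Subgroup.mem_centralizer_singleton_iff.mp ((inf_eq_left.mp h1) hb)
      have hAc : A ≤ Subgroup.center G := by
        intro b hb
        rw [Subgroup.mem_center_iff]
        intro g
        have : g ∈ Subgroup.centralizer ({b} : Set G) := by
          have hle : A ⊔ Subgroup.zpowers y ≤ Subgroup.centralizer ({b} : Set G) :=
            sup_le (fun c hc => Subgroup.mem_centralizer_singleton_iff.mpr (hcomm c hc b hb))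
              (Subgroup.zpowers_le.mpr (Subgroup.mem_centralizer_singleton_iff.mpr (hAy b hb).symm))
          exact hle (hgen y hy ▸ Subgroup.mem_top g)
        exact Subgroup.mem_centralizer_singleton_iff.mp this
      refine ⟨⟨fun u v => ?_⟩⟩
      obtain ⟨a1, ha1, -, ⟨i, rfl⟩, rfl⟩ := Subgroup.mem_sup_of_normal_left.mp (hgen y hy ▸ Subgroup.mem_top u)
      obtain ⟨a2, ha2, -, ⟨j, rfl⟩, rfl⟩ := Subgroup.mem_sup_of_normal_left.mp (hgen y hy ▸ Subgroup.mem_top v)
      have c1 : Commute a1 (a2 * y ^ j) := (Subgroup.mem_center_iff.mp (hAc ha1) (a2 * y ^ j)).symm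
      have c2 : Commute (y ^ i) a2 := Subgroup.mem_center_iff.mp (hAc ha2) (y ^ i)
      exact (c1.mul_left (c2.mul_right ((Commute.refl y).zpow_zpow i j))).eq
  refine ⟨?_, hfix⟩
  -- a `p`-element outside `A`
  obtain ⟨x, hx⟩ := exists_prime_orderOf_dvd_card' (G := G) p (hidx ▸ Subgroup.index_dvd_card A)
  have hxA : x ∉ A := by
    intro h
    have hd := hk ▸ Subgroup.orderOf_dvd_natCard A h
    rw [hx] at hd
    exact hpq ((Nat.prime_dvd_prime_iff_eq hp.out hq).mp (hp.out.dvd_of_dvd_pow hd)).symm
  set e := orderOf (q : ZMod p) with he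
  -- congruence
  have hmod : ((q : ZMod p)) ^ k = 1 := by
    letI : MulAction (Subgroup.zpowers x) A := MulAction.compHom A ((MulAut.conjNormal (H := A)).comp (Subgroup.zpowers x).subtype)
    have hg : IsPGroup p (Subgroup.zpowers x) := IsPGroup.of_card (n := 1) (by rw [Nat.card_zpowers, hx, pow_one])
    have h1 := hg.card_modEq_card_fixedPoints A
    have h2 : MulAction.fixedPoints (Subgroup.zpowers x) A = {1} := by
      ext a
      constructor
      · intro ha
        have h3 : ((MulAut.conjNormal x a : A) : G) = a := congrArg Subtype.val (ha ⟨x, Subgroup.mem_zpowers x⟩)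
        rw [MulAut.conjNormal_apply] at h3
        exact Subtype.ext (hfix x hxA a a.2 h3)
      · rintro rfl g; exact map_one (MulAut.conjNormal (g : G))
    rw [h2, Nat.card_coe_set_eq, Set.ncard_singleton, hk, ← ZMod.natCast_eq_natCast_iff] at h1
    push_cast at h1
    exact h1
  have hk0 : 0 < k := by
    rcases Nat.eq_zero_or_pos k with rfl | h
    · exfalso
      apply hna
      rw [pow_zero] at hk
      have hA1 : A = ⊥ := Subgroup.card_eq_one.mp hk
      haveI : IsCyclic G := by
        refine isCyclic_of_prime_card (p := p) ?_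
        rw [← Subgroup.index_mul_card A, hidx, hk, mul_one]
      exact IsCyclic.isMulCommutative
    · exact h
  -- the ring generated by `x`
  let V := Additive A
  letI : CommGroup A := { (inferInstance : Group A) with mul_comm := fun a b => hA.1.is_comm.comm a b }
  let φ : AddMonoid.End V := MonoidHom.toAdditive (MulAut.conjNormal x : MulAut A).toMonoidHom
  set R := Subring.closure ({φ} : Set (AddMonoid.End V)) with hR
  have hRc : ∀ r ∈ R, Commute φ r := fun r hr => by
    induction hr using Subring.closure_induction with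
    | mem z hz => rw [Set.mem_singleton_iff] at hz; rw [hz]
    | zero => exact Commute.zero_right φ
    | one => exact Commute.one_right φ
    | add a b _ _ ha hb => exact ha.add_right hb
    | neg a _ ha => exact ha.neg_right
    | mul a b _ _ ha hb => exact ha.mul_right hb
  have hRR : ∀ r ∈ R, ∀ s ∈ R, Commute r s := fun r hr s hs => by
    induction hr using Subring.closure_induction with
    | mem z hz => rw [Set.mem_singleton_iff] at hz; rw [hz]; exact hRc s hs
    | zero => exact Commute.zero_left s
    | one => exact Commute.one_left s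
    | add a b _ _ ha hb => exact ha.add_left hb
    | neg a _ ha => exact ha.neg_left
    | mul a b _ _ ha hb => exact ha.mul_left hb
  have hq0 : (q : AddMonoid.End V) = 0 := by
    have key : ∀ v : V, (q : AddMonoid.End V) v = (0 : AddMonoid.End V) v := fun v => by
      refine (AddMonoid.End.natCast_apply q v).trans ?_
      exact congrArg Additive.ofMul (Subtype.ext (by rw [SubgroupClass.coe_pow]; exact hA.2 _ v.toMul.2) : v.toMul ^ q = 1)
    exact DFunLike.ext _ _ key
  have hfrob : ∀ (i : ℕ) (a b : AddMonoid.End V), Commute a b → (a + b) ^ q ^ i = a ^ q ^ i + b ^ q ^ i := by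
    intro i
    induction i with
    | zero => intro a b _; simp
    | succ i ih =>
      intro a b hab
      rw [pow_succ, pow_mul, pow_mul, pow_mul, ih a b hab]
      obtain ⟨r, hr⟩ := ((hab.pow_pow (q ^ i) (q ^ i))).exists_add_pow_prime_eq hq
      rw [hr, hq0, zero_mul, zero_mul, zero_mul, add_zero]
  have hφp : φ ^ p = 1 := by
    have h : ∀ (i : ℕ) (v : V), (φ ^ i) v = Additive.ofMul ((MulAut.conjNormal x ^ i : MulAut A) v.toMul) := by
      intro i
      induction i with
      | zero => intro v; rfl
      | succ i ih =>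
        intro v
        rw [pow_succ', pow_succ', MulAut.mul_apply]
        show φ ((φ ^ i) v) = _
        rw [ih]
        rfl
    ext v
    rw [h, ← map_pow, ← hx, pow_orderOf_eq_one, map_one]
    rfl
  have hqne : (q : ZMod p) ≠ 0 := fun h =>
    hpq ((Nat.prime_dvd_prime_iff_eq hp.out hq).mp ((ZMod.natCast_eq_zero_iff q p).mp h)).symm
  have hepos : 0 < e := orderOf_pos_iff.mpr (isOfFinOrder_iff_pow_eq_one.mpr ⟨p - 1, Nat.sub_pos_of_lt hp.out.one_lt, ZMod.pow_card_sub_one_eq_one hqne⟩)
  have hQ : φ ^ q ^ e = φ := by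
    have h1 : ((q ^ e : ℕ) : ZMod p) = ((1 : ℕ) : ZMod p) := by push_cast; exact pow_orderOf_eq_one _
    rw [ZMod.natCast_eq_natCast_iff'] at h1
    rw [← Nat.mod_add_div (q ^ e) p, pow_add, pow_mul, hφp, one_pow, mul_one, h1, Nat.one_mod_eq_one.mpr hp.out.ne_one, pow_one]
  have hroot : ∀ r ∈ R, r ^ q ^ e = r := fun r hr => by
    induction hr using Subring.closure_induction with
    | mem z hz => rw [Set.mem_singleton_iff] at hz; rw [hz]; exact hQ
    | zero => exact zero_pow (pow_ne_zero _ hq.ne_zero)
    | one => exact one_pow _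
    | add a b ha' hb' ha hb => rw [hfrob e a b (hRR a ha' b hb'), ha, hb]
    | neg a ha' ha =>
      have h := hfrob e a (-a) ((Commute.refl a).neg_right)
      rw [add_neg_cancel, zero_pow (pow_ne_zero _ hq.ne_zero), ha] at h
      exact eq_neg_of_add_eq_zero_right h.symm
    | mul a b ha' hb' ha hb => rw [(hRR a ha' b hb').mul_pow, ha, hb]
  letI : CommRing R := { (inferInstance : Ring R) with mul_comm := fun a b => Subtype.ext (hRR a a.2 b b.2) }
  have hzero : ∀ r s : R, r * s = 0 → r = 0 ∨ s = 0 := by
    intro r s hrs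
    by_contra hc
    push Not at hc
    obtain ⟨hr, hs⟩ := hc
    let f : A →* A :=
      { toFun := fun a => ((r : AddMonoid.End V) (Additive.ofMul a)).toMul
        map_one' := congrArg Additive.toMul (map_zero (r : AddMonoid.End V))
        map_mul' := fun a b => congrArg Additive.toMul (map_add (r : AddMonoid.End V) (Additive.ofMul a) (Additive.ofMul b)) }
    rcases hinv x hxA (f.ker.map A.subtype) (Subgroup.map_subtype_le _) (by
      rintro _ ⟨a, ha, rfl⟩
      refine ⟨MulAut.conjNormal x a, ?_, MulAut.conjNormal_apply x a⟩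
      rw [SetLike.mem_coe, MonoidHom.mem_ker] at ha ⊢
      show ((r : AddMonoid.End V) (φ (Additive.ofMul a))).toMul = 1
      rw [show (r : AddMonoid.End V) (φ (Additive.ofMul a)) = φ ((r : AddMonoid.End V) (Additive.ofMul a)) from
        DFunLike.congr_fun (hRc r r.2).eq.symm (Additive.ofMul a)]
      change ((r : AddMonoid.End V) (Additive.ofMul a)).toMul = 1 at ha
      rw [show (r : AddMonoid.End V) (Additive.ofMul a) = 0 from Additive.toMul.injective ha, map_zero]
      rfl) with h1 | h1
    · apply hs
      apply Subtype.ext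
      refine DFunLike.ext _ _ fun v => ?_
      have h2 : (r : AddMonoid.End V) ((s : AddMonoid.End V) v) = 0 :=
        DFunLike.congr_fun (congrArg Subtype.val hrs) v
      have h3 : (((s : AddMonoid.End V) v).toMul : G) ∈ f.ker.map A.subtype :=
        ⟨_, congrArg Additive.toMul h2, rfl⟩
      rw [h1, Subgroup.mem_bot] at h3
      exact Additive.toMul.injective (Subtype.ext h3)
    · apply hr
      apply Subtype.ext
      refine DFunLike.ext _ _ fun v => ?_
      have h3 : ((v.toMul : A) : G) ∈ f.ker.map A.subtype := by rw [h1]; exact v.toMul.2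
      obtain ⟨a, ha, hav⟩ := h3
      have hav' : a = v.toMul := Subtype.ext hav
      subst hav'
      exact Additive.toMul.injective (MonoidHom.mem_ker.mp ha)
  obtain ⟨a, ha⟩ : ∃ a : A, a ≠ 1 := by
    by_contra hc
    push Not at hc
    haveI : Subsingleton A := ⟨fun u v => (hc u).trans (hc v).symm⟩
    rw [Nat.card_unique] at hk
    exact (Nat.one_lt_pow hk0.ne' hq.one_lt).ne hk
  have hnt : (1 : R) ≠ 0 := by
    intro h
    apply ha
    have := DFunLike.congr_fun (congrArg Subtype.val h) (Additive.ofMul a)
    exact congrArg Additive.toMul this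
  haveI : Nontrivial R := ⟨⟨1, 0, hnt⟩⟩
  haveI : NoZeroDivisors R := ⟨fun {r s} h => hzero r s h⟩
  haveI : IsDomain R := NoZeroDivisors.to_isDomain R
  haveI : Finite (AddMonoid.End V) := Finite.of_injective (fun f => (f : V → V)) DFunLike.coe_injective
  haveI : Finite V := Finite.of_equiv A Additive.ofMul
  have hcardR : Nat.card R ≤ q ^ e :=
    card_le_of_pow_eq (Nat.one_lt_pow hepos.ne' hq.one_lt)
      (fun r => Subtype.ext (by rw [SubmonoidClass.coe_pow]; exact hroot r r.2))
  have hsurj : Function.Surjective (fun r : R => ((r : AddMonoid.End V) (Additive.ofMul a)).toMul) := by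
    let ev : R →+ V :=
      { toFun := fun r => (r : AddMonoid.End V) (Additive.ofMul a), map_zero' := rfl, map_add' := fun _ _ => rfl }
    set B : Subgroup A := AddSubgroup.toSubgroup ev.range with hB
    have hBm : ∀ u : A, u ∈ B ↔ ∃ r : R, ((r : AddMonoid.End V) (Additive.ofMul a)).toMul = u := fun u =>
      ⟨fun ⟨r, hr⟩ => ⟨r, congrArg Additive.toMul hr⟩, fun ⟨r, hr⟩ => ⟨r, Additive.toMul.injective hr⟩⟩
    rcases hinv x hxA (B.map A.subtype) (Subgroup.map_subtype_le _) (by
      rintro _ ⟨u, hu, rfl⟩
      obtain ⟨r, hr⟩ := (hBm u).mp hu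
      refine ⟨MulAut.conjNormal x u, (hBm _).mpr ⟨⟨φ, Subring.subset_closure rfl⟩ * r, ?_⟩, MulAut.conjNormal_apply x u⟩
      rw [← hr]
      rfl) with h1 | h1
    · exfalso
      apply ha
      have : (a : G) ∈ B.map A.subtype := ⟨a, (hBm a).mpr ⟨1, rfl⟩, rfl⟩
      rw [h1, Subgroup.mem_bot] at this
      exact Subtype.ext this
    · intro u
      have : (u : G) ∈ B.map A.subtype := by rw [h1]; exact u.2
      obtain ⟨w, hw, hwu⟩ := this
      obtain rfl : w = u := Subtype.ext hwu
      exact (hBm w).mp hw
  have hle : q ^ k ≤ q ^ e := hk ▸ (Nat.card_le_card_of_surjective _ hsurj).trans hcardR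
  have hke : k = e := le_antisymm ((Nat.pow_le_pow_iff_right hq.one_lt).mp hle)
    (Nat.le_of_dvd hk0 (orderOf_dvd_of_pow_eq_one hmod))
  rw [hk, hke]

end CfsgLib.GroupB.IrrPrime
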