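import Mathlib
import Cfsg.Agent.Lib.GroupB.Coprime
import Cfsg.Agent.Lib.ExtraIso
import Cfsg.Agent.Lib.RankTwo.OmegaTwo
import Cfsg.Prelude.Def_Transfer

/-!
# The Hall–Higman reduction
-/

set_option autoImplicit false
set_option linter.style.haveILetI false

namespace CfsgLib.GroupB.MinimalAction

open scoped commutatorElement

universe u

variable {X : Type u} [Group X] [Finite X] {p : ℕ} [Fact p.Prime]

theorem normalizer_map_le {P : Subgroup X} (K : Subgroup ↥P) [hK : K.Characteristic] :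
    Subgroup.normalizer (P : Set X) ≤ Subgroup.normalizer ((K.map P.subtype : Subgroup X) : Set X) := by
  intro g hg
  have key : ∀ g ∈ Subgroup.normalizer (P : Set X), ∀ x ∈ K.map P.subtype, g * x * g⁻¹ ∈ K.map P.subtype := by
    rintro g hg _ ⟨x, hx, rfl⟩
    have h1 := (Subgroup.characteristic_iff_map_eq.mp hK) (P.normalizerMonoidHom ⟨g, hg⟩)
    exact ⟨P.normalizerMonoidHom ⟨g, hg⟩ x, h1 ▸ ⟨x, hx, rfl⟩, rfl⟩
  exact Subgroup.mem_normalizer_iff.mpr fun x => ⟨key g hg x, fun hx => by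
    have := key g⁻¹ (inv_mem hg) _ hx
    simpa [mul_assoc] using this⟩

/-- An `A`-fixed element of `P = [P, A]` lies in every `A`-invariant subgroup containing the derived subgroup. -/
theorem fixed_mem {A P : Subgroup X} (hAP : A ≤ Subgroup.normalizer (P : Set X)) (hcop : (Nat.card A).Coprime (Nat.card P))
    (hPA : ⁅P, A⁆ = P) (K : Subgroup ↥P) (hK : commutator ↥P ≤ K) (hKn : A ≤ Subgroup.normalizer ((K.map P.subtype : Subgroup X) : Set X))
    {u : ↥P} (hu : ∀ a ∈ A, a * (u : X) = u * a) : u ∈ K := by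
  classical
  haveI : Fintype A := Fintype.ofFinite _
  haveI hKnorm : K.Normal := ⟨fun k hk g => by
    rw [show g * k * g⁻¹ = ⁅g, k⁆ * k by rw [commutatorElement_def]; group]
    exact K.mul_mem (hK (Subgroup.commutator_mem_commutator trivial trivial)) hk⟩
  letI : CommGroup (↥P ⧸ K) :=
    { (inferInstance : Group (↥P ⧸ K)) with
      mul_comm := by
        rintro ⟨x⟩ ⟨y⟩
        refine QuotientGroup.eq.mpr (hK ?_)
        rw [show (x * y)⁻¹ * (y * x) = ⁅y⁻¹, x⁻¹⁆ by rw [commutatorElement_def]; group]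
        exact Subgroup.commutator_mem_commutator trivial trivial }
  let cj : A → ↥P → ↥P := fun a x => ⟨a * x * (a : X)⁻¹, (Subgroup.mem_normalizer_iff.mp (hAP a.2) x).mp x.2⟩
  have hcj : ∀ a x y, cj a (x * y) = cj a x * cj a y := fun a x y => Subtype.ext (by simp [cj, mul_assoc])
  let θ : ↥P →* ↥P ⧸ K := MonoidHom.mk' (fun x => ∏ a : A, QuotientGroup.mk (cj a x)) fun x y => by
    simp only [hcj, QuotientGroup.mk_mul, Finset.prod_mul_distrib]
  have hθ : ∀ (a : A) (x : ↥P), θ (cj a x) = θ x := fun a x => by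
    show ∏ b : A, (QuotientGroup.mk (cj b (cj a x)) : ↥P ⧸ K) = ∏ b : A, QuotientGroup.mk (cj b x)
    rw [← Equiv.prod_comp (Equiv.mulRight a) (fun b => (QuotientGroup.mk (cj b x) : ↥P ⧸ K))]
    exact Finset.prod_congr rfl fun b _ => congrArg _ (Subtype.ext (by simp [cj, mul_assoc]))
  have hker : ∀ x : ↥P, θ x = 1 := by
    intro x
    have hle : ⁅P, A⁆ ≤ θ.ker.map P.subtype := Subgroup.commutator_le.mpr fun g hg a ha => by
      refine ⟨⟨g, hg⟩ * (cj ⟨a, ha⟩ ⟨g, hg⟩)⁻¹, ?_, ?_⟩
      · rw [SetLike.mem_coe, MonoidHom.mem_ker, map_mul, map_inv, hθ, mul_inv_cancel]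
      · simp [cj, commutatorElement_def, mul_assoc]
    rw [hPA] at hle
    obtain ⟨y, hy, hyx⟩ := hle x.2
    rw [← show y = x from Subtype.ext hyx]
    exact hy
  have h1 : θ u = (QuotientGroup.mk u : ↥P ⧸ K) ^ Nat.card A := by
    show ∏ a : A, (QuotientGroup.mk (cj a u) : ↥P ⧸ K) = _
    have e : ∀ a : A, cj a u = u := fun a => Subtype.ext (show (a : X) * u * (a : X)⁻¹ = u by rw [hu a a.2, mul_inv_cancel_right])
    simp only [e, Finset.prod_const, Finset.card_univ, Nat.card_eq_fintype_card]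
  rw [hker] at h1
  rw [← QuotientGroup.eq_one_iff, ← orderOf_eq_one_iff]
  exact Nat.Coprime.eq_one_of_dvd
    (hcop.symm.coprime_dvd_left ((orderOf_map_dvd (QuotientGroup.mk' K) u).trans (by
      rw [← Subgroup.orderOf_coe]; exact (Subgroup.orderOf_coe u ▸ orderOf_dvd_natCard u))))
    (orderOf_dvd_of_pow_eq_one h1.symm)

theorem frattini_facts (hP : IsPGroup p X) :
    commutator X ≤ frattini X ∧ ∀ x : X, x ^ p ∈ frattini X := by
  constructor
  · rw [frattini, Order.radical]
    refine le_iInf₂ fun M hM => ?_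
    obtain ⟨hn, hi⟩ := CfsgLib.ExtraIso.index_coatom hP hM
    haveI := hn
    haveI : Fact (Nat.card (X ⧸ M)).Prime := ⟨by rw [← Subgroup.index_eq_card, hi]; exact Fact.out⟩
    haveI : IsCyclic (X ⧸ M) := isCyclic_of_prime_card (p := Nat.card (X ⧸ M)) rfl
    rw [commutator_def]
    refine Subgroup.commutator_le.mpr fun x _ y _ => ?_
    rw [← QuotientGroup.eq_one_iff]
    show (QuotientGroup.mk' M) ⁅x, y⁆ = 1
    rw [map_commutatorElement, commutatorElement_eq_one_iff_mul_comm]
    exact IsCyclic.commGroup.mul_comm _ _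
  · intro x
    rw [frattini, Order.radical]
    simp only [Subgroup.mem_iInf]
    intro M hM
    obtain ⟨hn, hi⟩ := CfsgLib.ExtraIso.index_coatom hP hM
    haveI := hn
    exact hi ▸ Subgroup.pow_index_mem M x

theorem main (B A P : Subgroup X) (hP : IsPGroup p P) (hBP : B ≤ Subgroup.normalizer (P : Set X)) (hAB : A ≤ B)
    (hAn : B ≤ Subgroup.normalizer (A : Set X)) (hAp : (Nat.card A).Coprime p) (hnt : ⁅P, A⁆ ≠ ⊥)
    (hmin : ∀ U : Subgroup X, U < P → B ≤ Subgroup.normalizer (U : Set X) → ⁅U, A⁆ = ⊥) :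
    ⁅P, A⁆ = P ∧ (Cfsg.IsElementaryAbelian p P ∨ Cfsg.IsSpecial p ↥P) ∧
    (∀ U : Subgroup X, (frattini ↥P).map P.subtype ≤ U → U ≤ P → B ≤ Subgroup.normalizer (U : Set X) →
      U = (frattini ↥P).map P.subtype ∨ U = P) ∧ (p ≠ 2 → ∀ x ∈ P, x ^ p = 1) := by
  classical
  have hp : p.Prime := Fact.out
  have hAP : A ≤ Subgroup.normalizer (P : Set X) := hAB.trans hBP
  have hcop : (Nat.card A).Coprime (Nat.card P) := by
    obtain ⟨n, hn⟩ := IsPGroup.iff_card.mp hP
    rw [hn]; exact hAp.pow_right n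
  haveI := hP.isNilpotent
  have hsol : Group.IsSolvable P ∨ Group.IsSolvable A := Or.inl inferInstance
  have hPA : ⁅P, A⁆ = P := by
    by_contra hne
    have hlt : ⁅P, A⁆ < P := lt_of_le_of_ne (CfsgLib.GroupB.Coprime.commutator_le_of_le_normalizer hAP) hne
    refine hnt ?_
    rw [← CfsgLib.GroupB.Coprime.commutator_commutator_eq hAP hcop hsol]
    refine hmin _ hlt ?_
    intro b hb
    have key : ∀ b ∈ B, ∀ x ∈ ⁅P, A⁆, b * x * b⁻¹ ∈ ⁅P, A⁆ := by
      intro b hb x hx
      suffices h : ⁅P, A⁆ ≤ (⁅P, A⁆).comap (MulAut.conj b).toMonoidHom from h hx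
      refine Subgroup.commutator_le.mpr fun g hg a ha => ?_
      show b * ⁅g, a⁆ * b⁻¹ ∈ ⁅P, A⁆
      rw [show b * ⁅g, a⁆ * b⁻¹ = ⁅b * g * b⁻¹, b * a * b⁻¹⁆ by simp only [commutatorElement_def]; group]
      exact Subgroup.commutator_mem_commutator ((Subgroup.mem_normalizer_iff.mp (hBP hb) g).mp hg)
        ((Subgroup.mem_normalizer_iff.mp (hAn hb) a).mp ha)
    exact Subgroup.mem_normalizer_iff.mpr fun x => ⟨key b hb x, fun hx => by
      have := key b⁻¹ (inv_mem hb) _ hx
      simpa [mul_assoc] using this⟩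
  -- characteristic proper subgroups are fixed by `A`
  have hfixK : ∀ K : Subgroup ↥P, K.Characteristic → K ≠ ⊤ → ∀ u ∈ K, ∀ a ∈ A, a * (u : X) = u * a := by
    intro K hK hKt u hu a ha
    haveI := hK
    have h := hmin (K.map P.subtype) ?_ (hBP.trans (normalizer_map_le K))
    · rw [Subgroup.commutator_eq_bot_iff_le_centralizer] at h
      exact h ⟨u, hu, rfl⟩ a ha
    · refine lt_of_le_of_ne (Subgroup.map_subtype_le K) fun e => hKt ?_
      rw [eq_top_iff]
      intro x _
      obtain ⟨y, hy, hyx⟩ := e.ge x.2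
      exact (Subtype.ext hyx : y = x) ▸ hy
  have hfix : ∀ K : Subgroup ↥P, commutator ↥P ≤ K → K.Characteristic → ∀ u : ↥P, (∀ a ∈ A, a * (u : X) = u * a) → u ∈ K :=
    fun K hK hKc u hu => by
      haveI := hKc
      exact fixed_mem hAP hcop hPA K hK (hAP.trans (normalizer_map_le K)) hu
  have hPne : P ≠ ⊥ := fun e => hnt (by rw [e, Subgroup.commutator_bot_left])
  haveI : Nontrivial P := (Subgroup.nontrivial_iff_ne_bot P).mpr hPne
  have hΦt : frattini ↥P ≠ ⊤ := fun e => by
    have hbot : (⊥ : Subgroup ↥P) = ⊤ := frattini_nongenerating (by rw [bot_sup_eq]; exact e)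
    exact bot_ne_top hbot
  obtain ⟨hΦc, hΦp⟩ := frattini_facts hP
  have hΦchar : (frattini ↥P).Characteristic := frattini_characteristic
  have hirr : ∀ U : Subgroup X, (frattini ↥P).map P.subtype ≤ U → U ≤ P → B ≤ Subgroup.normalizer (U : Set X) →
      U = (frattini ↥P).map P.subtype ∨ U = P := by
    intro U h1 h2 h3
    by_cases hU : U = P
    · exact Or.inr hU
    left
    refine le_antisymm (fun u hu => ?_) h1
    have h := hmin U (lt_of_le_of_ne h2 hU) h3
    rw [Subgroup.commutator_eq_bot_iff_le_centralizer] at h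
    exact ⟨⟨u, h2 hu⟩, hfix _ hΦc hΦchar ⟨u, h2 hu⟩ (fun a ha => h hu a ha), rfl⟩
  refine ⟨hPA, ?_, hirr, ?_⟩
  · by_cases hcomm : commutator ↥P = ⊥
    · left
      have hΦ : frattini ↥P = ⊥ := by
        rw [eq_bot_iff, ← hcomm]
        exact fun u hu => hfix _ le_rfl inferInstance u (hfixK _ hΦchar hΦt u hu)
      refine ⟨⟨⟨fun a b => ?_⟩⟩, fun a ha => ?_⟩
      · rw [← commutatorElement_eq_one_iff_mul_comm, ← Subgroup.mem_bot, ← hcomm]
        exact Subgroup.commutator_mem_commutator trivial trivial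
      · have := hΦp ⟨a, ha⟩
        rw [hΦ, Subgroup.mem_bot] at this
        exact congrArg Subtype.val this
    · right
      have hZt : Subgroup.center ↥P ≠ ⊤ := fun e => hcomm (by
        rw [commutator_def, Subgroup.commutator_eq_bot_iff_le_centralizer, Subgroup.coe_top, Subgroup.centralizer_univ, e])
      have hZfix := hfixK _ inferInstance hZt
      have hZc : Subgroup.center ↥P ≤ commutator ↥P := fun z hz => hfix _ le_rfl inferInstance z (hZfix z hz)
      have hΦZ : frattini ↥P ≤ Subgroup.center ↥P := by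
        haveI := hΦchar
        haveI : (frattini ↥P).Normal := inferInstance
        intro w hw
        rw [Subgroup.mem_center_iff]
        intro g
        -- three subgroups
        have e1 : ⁅(frattini ↥P).map P.subtype, A⁆ = ⊥ := by
          rw [Subgroup.commutator_eq_bot_iff_le_centralizer]
          rintro _ ⟨u, hu, rfl⟩ a ha
          exact hfixK _ hΦchar hΦt u hu a ha
        have e2 : ⁅P, (frattini ↥P).map P.subtype⁆ ≤ (frattini ↥P).map P.subtype := Subgroup.commutator_le.mpr (by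
          rintro g hg _ ⟨u, hu, rfl⟩
          refine ⟨⁅(⟨g, hg⟩ : ↥P), u⁆, ?_, map_commutatorElement P.subtype _ _⟩
          rw [SetLike.mem_coe, commutatorElement_def]
          exact (frattini ↥P).mul_mem ((inferInstance : (frattini ↥P).Normal).conj_mem u hu ⟨g, hg⟩) (inv_mem hu))
        have e3 : ⁅⁅A, P⁆, (frattini ↥P).map P.subtype⁆ = ⊥ := by
          refine Subgroup.commutator_commutator_eq_bot_of_rotate ?_ ?_
          · exact le_bot_iff.mp ((Subgroup.commutator_mono e2 le_rfl).trans e1.le)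
          · rw [e1, Subgroup.commutator_bot_left]
        rw [Subgroup.commutator_comm A P, hPA, Subgroup.commutator_eq_bot_iff_le_centralizer] at e3
        exact Subtype.ext ((e3 g.2 (w : X) ⟨w, hw, rfl⟩)).symm
      exact ⟨hP, le_antisymm hΦZ (hZc.trans hΦc), le_antisymm (hΦc.trans hΦZ) hZc⟩
  · intro hp2 x hx
    have hcZ : ∀ a b : ↥P, ⁅a, b⁆ ∈ frattini ↥P := fun a b => hΦc (Subgroup.commutator_mem_commutator trivial trivial)
    have hfixΦ := hfixK _ hΦchar hΦt
    have hcent : ∀ w ∈ frattini ↥P, ∀ g : ↥P, g * w = w * g := by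
      intro w hw g
      haveI := hΦchar
      haveI : (frattini ↥P).Normal := inferInstance
      have e1 : ⁅(frattini ↥P).map P.subtype, A⁆ = ⊥ := by
        rw [Subgroup.commutator_eq_bot_iff_le_centralizer]
        rintro _ ⟨u, hu, rfl⟩ a ha
        exact hfixΦ u hu a ha
      have e2 : ⁅P, (frattini ↥P).map P.subtype⁆ ≤ (frattini ↥P).map P.subtype := Subgroup.commutator_le.mpr (by
        rintro g hg _ ⟨u, hu, rfl⟩
        refine ⟨⁅(⟨g, hg⟩ : ↥P), u⁆, ?_, map_commutatorElement P.subtype _ _⟩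
        rw [SetLike.mem_coe, commutatorElement_def]
        exact (frattini ↥P).mul_mem ((inferInstance : (frattini ↥P).Normal).conj_mem u hu ⟨g, hg⟩) (inv_mem hu))
      have e3 : ⁅⁅A, P⁆, (frattini ↥P).map P.subtype⁆ = ⊥ := by
        refine Subgroup.commutator_commutator_eq_bot_of_rotate ?_ ?_
        · exact le_bot_iff.mp ((Subgroup.commutator_mono e2 le_rfl).trans e1.le)
        · rw [e1, Subgroup.commutator_bot_left]
      rw [Subgroup.commutator_comm A P, hPA, Subgroup.commutator_eq_bot_iff_le_centralizer] at e3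
      exact Subtype.ext ((e3 g.2 (w : X) ⟨w, hw, rfl⟩)).symm
    have hcen : ∀ a b : ↥P, ⁅a, b⁆ ∈ Subgroup.center ↥P := fun a b =>
      Subgroup.mem_center_iff.mpr fun g => hcent _ (hcZ a b) g
    have hpow : ∀ a b : ↥P, (a * b) ^ p = a ^ p * b ^ p := by
      intro a b
      rw [CfsgLib.RankTwo.mul_pow_central (hcen b a)
        (show b * a = ⁅b, a⁆ * a * b by rw [commutatorElement_def]; group)]
      have e1 : ⁅b, a⁆ ^ p = 1 := by
        have e2 : ∀ n : ℕ, ⁅b ^ n, a⁆ = ⁅b, a⁆ ^ n := by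
          intro n
          induction n with
          | zero => simp
          | succ n ih =>
            calc ⁅b ^ (n + 1), a⁆ = b * ⁅b ^ n, a⁆ * b⁻¹ * ⁅b, a⁆ := by
                  rw [pow_succ']; simp only [commutatorElement_def]; group
              _ = ⁅b, a⁆ ^ (n + 1) := by
                  rw [ih, Subgroup.mem_center_iff.mp (Subgroup.pow_mem _ (hcen b a) n) b, mul_inv_cancel_right, pow_succ]
        rw [← e2, commutatorElement_eq_one_iff_mul_comm]
        exact (hcent _ (hΦp b) a).symm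
      have hdiv : p ∣ p.choose 2 := hp.dvd_choose_self two_ne_zero (lt_of_le_of_ne hp.two_le (Ne.symm hp2))
      obtain ⟨j, hj⟩ := hdiv
      rw [hj, pow_mul, e1, one_pow, one_mul]
    let ψ : ↥P →* ↥P := MonoidHom.mk' (fun a => a ^ p) hpow
    have hle : ⁅P, A⁆ ≤ ψ.ker.map P.subtype := Subgroup.commutator_le.mpr fun g hg a ha => by
      have hmem : a * g⁻¹ * a⁻¹ ∈ P := (Subgroup.mem_normalizer_iff.mp (hAP ha) _).mp (P.inv_mem hg)
      refine ⟨⟨g, hg⟩ * ⟨_, hmem⟩, ?_, ?_⟩
      · rw [SetLike.mem_coe, MonoidHom.mem_ker, map_mul]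
        apply Subtype.ext
        show ((⟨g, hg⟩ ^ p : ↥P) : X) * ((⟨_, hmem⟩ ^ p : ↥P) : X) = 1
        rw [SubmonoidClass.coe_pow, SubmonoidClass.coe_pow]
        have e := hfixΦ _ (hΦp ⟨g, hg⟩) a ha
        rw [SubmonoidClass.coe_pow] at e
        have e' : (a * g⁻¹ * a⁻¹) ^ p = (g ^ p)⁻¹ := by
          rw [conj_pow, inv_pow, mul_inv_eq_iff_eq_mul]
          exact (Commute.inv_right (show Commute a (g ^ p) from e)).eq
        rw [e', mul_inv_cancel]
      · simp [commutatorElement_def, mul_assoc]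
    rw [hPA] at hle
    obtain ⟨y, hy, hyx⟩ := hle hx
    rw [SetLike.mem_coe, MonoidHom.mem_ker] at hy
    rw [← hyx]
    exact congrArg Subtype.val hy

end CfsgLib.GroupB.MinimalAction
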