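import Mathlib.GroupTheory.Transfer
import Mathlib.GroupTheory.Perm.Cycle.Type
import Mathlib.RingTheory.ZMod.UnitsCyclic
import Mathlib.GroupTheory.SpecificGroups.Cyclic
import Mathlib.GroupTheory.IndexNormal
import Mathlib.GroupTheory.GroupAction.Blocks
import Mathlib.Combinatorics.Enumerative.DoubleCounting

/-! Sylow numbers `2p+1` that do not occur. -/

set_option autoImplicit false

namespace CfsgLib.GroupB.SylowNumber

universe u

variable {G : Type u} [Group G] {p : ℕ}

theorem sylow_le_of_normal_of_not_dvd_index [Finite G] [Fact p.Prime] (N : Subgroup G) [N.Normal]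
    (h : ¬ p ∣ N.index) (P : Sylow p G) : (P : Subgroup G) ≤ N := by
  intro x hx
  obtain ⟨k, hk⟩ := P.2 ⟨x, hx⟩
  have hk' : x ^ p ^ k = 1 := congrArg Subtype.val hk
  have h1 : orderOf (QuotientGroup.mk' N x) ∣ p ^ k := by
    rw [orderOf_dvd_iff_pow_eq_one, ← map_pow, hk', map_one]
  have h2 : orderOf (QuotientGroup.mk' N x) ∣ N.index := by
    rw [Subgroup.index_eq_card]; exact orderOf_dvd_natCard _
  have h3 := Nat.eq_one_of_dvd_coprimes
    (((Fact.out : p.Prime).coprime_iff_not_dvd.mpr h).pow_left k) h1 h2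
  rw [orderOf_eq_one_iff] at h3
  exact (QuotientGroup.eq_one_iff x).mp h3

theorem card_sylow_normal_subgroup [Finite G] [Fact p.Prime] (N : Subgroup G) [N.Normal]
    (h : ¬ p ∣ N.index) : Nat.card (Sylow p ↥N) = Nat.card (Sylow p G) := by
  have hle := fun P : Sylow p G => sylow_le_of_normal_of_not_dvd_index N h P
  refine (Nat.card_congr (Equiv.ofBijective (fun P : Sylow p G => P.subtype (hle P))
    ⟨fun P Q h => Sylow.subtype_injective h, fun Q => ?_⟩)).symm
  obtain ⟨P, hP⟩ := (Q.2.map N.subtype).exists_le_sylow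
  refine ⟨P, Sylow.ext (Q.3 (P.subtype (hle P)).2 ?_)⟩
  intro x hx
  exact hP ⟨x, hx, rfl⟩

theorem card_sylow_quotient [Finite G] [Fact p.Prime] (N : Subgroup G) [N.Normal]
    (h : ∀ P : Sylow p G, N ≤ Subgroup.normalizer ((P : Subgroup G) : Set G)) :
    Nat.card (Sylow p (G ⧸ N)) = Nat.card (Sylow p G) := by
  refine (Nat.card_congr (Equiv.ofBijective
    (fun P : Sylow p G => P.mapSurjective (QuotientGroup.mk'_surjective N))
    ⟨fun P Q hPQ => ?_, Sylow.mapSurjective_surjective _ p⟩)).symm
  have h1 : (P : Subgroup G).map (QuotientGroup.mk' N) = (Q : Subgroup G).map (QuotientGroup.mk' N) :=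
    congrArg Sylow.toSubgroup hPQ
  rw [Subgroup.map_eq_map_iff, QuotientGroup.ker_mk'] at h1
  have h2 : (P : Subgroup G) ≤ Subgroup.normalizer ((Q : Subgroup G) : Set G) :=
    le_trans (le_sup_left.trans h1.le) (sup_le Subgroup.le_normalizer (h Q))
  have h3 : (P : Subgroup G) ≤ (Q : Subgroup G) :=
    inf_eq_left.mp ((P.2.inf_normalizer_sylow Q).symm.trans (inf_eq_left.mpr h2))
  exact Sylow.ext (P.3 Q.2 h3).symm

/-- A group of prime order whose `r - 1` is prime to `|G|` is centralised by its normalizer. -/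
theorem normalizer_le_centralizer_of_card [Finite G] (H : Subgroup G) (hH : (Nat.card H).Prime)
    (h : (Nat.card G).Coprime (Nat.card H - 1)) :
    Subgroup.normalizer (H : Set G) ≤ Subgroup.centralizer (H : Set G) := by
  haveI := Fact.mk hH
  haveI : IsCyclic ↥H := isCyclic_of_prime_card (p := Nat.card H) rfl
  have key := Subgroup.card_dvd_of_injective _
    (QuotientGroup.kerLift_injective H.normalizerMonoidHom)
  rw [Subgroup.normalizerMonoidHom_ker, ← Subgroup.index, ← Subgroup.relIndex, IsCyclic.card_mulAut,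
    Nat.totient_prime hH] at key
  refine Subgroup.relIndex_eq_one.mp (Nat.eq_one_of_dvd_coprimes h ?_ key)
  exact (Subgroup.relIndex_dvd_card _ _).trans (Subgroup.card_subgroup_dvd_card _)

/-- The hypotheses of the reduced configuration. -/
structure Config (G : Type u) [Group G] (p : ℕ) : Prop where
  fin : Finite G
  card : Nat.card (Sylow p G) = 2 * p + 1
  faithful : ∀ g : G, (∀ P : Sylow p G, g • P = P) → g = 1
  normal : ∀ N : Subgroup G, N.Normal → ¬ p ∣ N.index → N = ⊤

theorem exists_config [Fact p.Prime] :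
    ∀ (G : Type u) [Group G] [Finite G], Nat.card (Sylow p G) = 2 * p + 1 →
      ∃ (L : Type u) (_ : Group L), Config L p := by
  intro G _ _ hG
  induction hn : Nat.card G using Nat.strong_induction_on generalizing G with
  | _ n ih =>
    by_cases hK : (MulAction.toPermHom G (Sylow p G)).ker = ⊥
    · by_cases hN : ∃ N : Subgroup G, N.Normal ∧ ¬ p ∣ N.index ∧ N ≠ ⊤
      · obtain ⟨N, hNn, hNi, hNt⟩ := hN
        haveI := hNn
        refine ih _ ?_ ↥N ((card_sylow_normal_subgroup N hNi).trans hG) rfl
        rw [← hn]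
        exact lt_of_le_of_ne (Subgroup.card_le_card_group N)
          fun he => hNt (Subgroup.eq_top_of_card_eq N he)
      · push Not at hN
        refine ⟨G, inferInstance, ⟨inferInstance, hG, fun g hg => ?_, hN⟩⟩
        have : g ∈ (MulAction.toPermHom G (Sylow p G)).ker := Equiv.ext hg
        rwa [hK, Subgroup.mem_bot] at this
    · set K := (MulAction.toPermHom G (Sylow p G)).ker
      have hKN : ∀ P : Sylow p G, K ≤ Subgroup.normalizer ((P : Subgroup G) : Set G) := fun P g hg =>
        Sylow.smul_eq_iff_mem_normalizer.mp (Equiv.ext_iff.mp hg P)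
      refine ih _ ?_ (G ⧸ K) ((card_sylow_quotient K hKN).trans hG) rfl
      rw [← hn, Subgroup.card_eq_card_quotient_mul_card_subgroup K]
      exact lt_mul_of_one_lt_right Nat.card_pos ((Subgroup.one_lt_card_iff_ne_bot _).mpr hK)

theorem eq_of_le [Finite G] [Fact p.Prime] (P Q : Sylow p G)
    (h : (P : Subgroup G) ≤ Subgroup.normalizer ((Q : Subgroup G) : Set G)) : P = Q := by
  have h3 : (P : Subgroup G) ≤ (Q : Subgroup G) :=
    inf_eq_left.mp ((P.2.inf_normalizer_sylow Q).symm.trans (inf_eq_left.mpr h))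
  exact Sylow.ext (P.3 Q.2 h3).symm

/-- The stabiliser in `P` of a Sylow subgroup `Q` is `P ⊓ Q`. -/
theorem stabilizer_eq [Finite G] [Fact p.Prime] (P Q : Sylow p G) :
    MulAction.stabilizer ↥(P : Subgroup G) Q =
      ((P : Subgroup G) ⊓ (Q : Subgroup G)).subgroupOf (P : Subgroup G) := by
  ext x
  rw [MulAction.mem_stabilizer_iff, Subgroup.mem_subgroupOf]
  show (x : G) • Q = Q ↔ _
  rw [Sylow.smul_eq_iff_mem_normalizer, ← P.2.inf_normalizer_sylow Q, Subgroup.mem_inf]
  exact ⟨fun h => ⟨x.2, h⟩, fun h => h.2⟩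

theorem card_le_sq [Fact p.Prime] (hp : p ≠ 2) (hG : Config G p) (P : Sylow p G) :
    Nat.card ↥(P : Subgroup G) ∣ p ^ 2 := by
  haveI := hG.fin
  have hinj : Function.Injective (MulAction.toPermHom G (Sylow p G)) := by
    rw [← MonoidHom.ker_eq_bot_iff, eq_bot_iff]
    exact fun g hg => Subgroup.mem_bot.mpr (hG.faithful g (Equiv.ext_iff.mp hg))
  have h1 : Nat.card ↥(P : Subgroup G) ∣ (2 * p + 1).factorial := by
    have := Subgroup.card_dvd_of_injective ((MulAction.toPermHom G (Sylow p G)).comp
      (P : Subgroup G).subtype) (hinj.comp Subtype.val_injective)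
    rwa [Nat.card_perm, hG.card] at this
  obtain ⟨a, ha⟩ := IsPGroup.iff_card.mp P.2
  rw [ha] at h1 ⊢
  refine pow_dvd_pow p ?_
  have hp' := (Fact.out : p.Prime)
  have hp3 : 3 ≤ p := by have := hp'.two_le; omega
  have h2 := (Nat.Prime.pow_dvd_iff_le_factorization hp' (Nat.factorial_ne_zero _)).mp h1
  refine h2.trans ?_
  rw [Nat.factorization_factorial hp' (b := 2)
    (Nat.log_lt_of_lt_pow (by omega) (by nlinarith))]
  have hlt : (2 * p + 1) / p ≤ 2 :=
    Nat.lt_succ_iff.mp ((Nat.div_lt_iff_lt_mul hp'.pos).mpr (by omega))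
  simpa using hlt

theorem card_ne_sq [Fact p.Prime] (hp : p ≠ 2) (hG : Config G p) (P₀ : Sylow p G) :
    Nat.card ↥(P₀ : Subgroup G) ≠ p ^ 2 := by
  classical
  haveI := hG.fin
  intro h0
  have hp' := (Fact.out : p.Prime)
  have hp3 : 3 ≤ p := by have := hp'.two_le; omega
  have hall : ∀ P : Sylow p G, Nat.card ↥(P : Subgroup G) = p ^ 2 := fun P => by
    rw [P.card_eq_multiplicity, ← P₀.card_eq_multiplicity, h0]
  haveI : Fintype (Sylow p G) := Fintype.ofFinite _
  haveI : Fintype (Subgroup G) := Fintype.ofFinite _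
  have hn : Fintype.card (Sylow p G) = 2 * p + 1 := by rw [← Nat.card_eq_fintype_card, hG.card]
  let pts : Subgroup G → Finset (Sylow p G) := fun A => Finset.univ.filter fun Q => A ≤ (Q : Subgroup G)
  set 𝒜 : Finset (Subgroup G) :=
    Finset.univ.filter fun A => Nat.card A = p ∧ (pts A).card = p + 1 with h𝒜
  have key : ∀ P : Sylow p G, (Finset.bipartiteBelow (fun (A : Subgroup G) (Q : Sylow p G) =>
      A ≤ (Q : Subgroup G)) 𝒜 P).card = 2 := by
    intro P
    haveI hPc : IsMulCommutative ↥(P : Subgroup G) := IsPGroup.isMulCommutative_of_card_eq_prime_sq (hall P)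
    set S := (Finset.univ.erase P) with hS
    let f : Sylow p G → Subgroup G := fun Q => (P : Subgroup G) ⊓ (Q : Subgroup G)
    have hScard : S.card = 2 * p := by
      rw [Finset.card_erase_of_mem (Finset.mem_univ P), Finset.card_univ, hn]; omega
    have horb : ∀ Q ∈ S, Nat.card (f Q) = p ∧
        p ≤ (S.filter fun R => f R = f Q).card := by
      intro Q hQ
      have hne : Q ≠ P := (Finset.mem_erase.mp hQ).1
      set O := MulAction.orbit ↥(P : Subgroup G) Q with hO
      haveI : Fintype O := Fintype.ofFinite _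
      have hsub : O.toFinset ⊆ S := by
        intro R hR
        rw [Set.mem_toFinset] at hR
        refine Finset.mem_erase.mpr ⟨?_, Finset.mem_univ _⟩
        rintro rfl
        obtain ⟨x, hx⟩ := hR
        apply hne
        have hx' : (x : G) • Q = R := hx
        rw [← inv_smul_smul (x : G) Q, hx']
        exact Sylow.smul_eq_iff_mem_normalizer.mpr (inv_mem (Subgroup.le_normalizer x.2))
      have hcardO : Nat.card O * Nat.card (f Q) = p ^ 2 := by
        rw [← hall P, ← Nat.card_congr (Subgroup.subgroupOfEquivOfLe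
          (inf_le_left : f Q ≤ (P : Subgroup G))).toEquiv, ← stabilizer_eq, ← Nat.card_prod,
          Nat.card_congr (MulAction.orbitProdStabilizerEquivGroup ↥(P : Subgroup G) Q)]
      have hle : Nat.card O ≤ 2 * p := by
        rw [Nat.card_eq_fintype_card, ← Set.toFinset_card, ← hScard]
        exact Finset.card_le_card hsub
      have hne1 : Nat.card O ≠ 1 := fun h1 => by
        apply hne
        refine (eq_of_le P Q fun x hx => Sylow.smul_eq_iff_mem_normalizer.mp ?_).symm
        have := (Nat.card_eq_one_iff_unique.mp h1).1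
        exact congrArg Subtype.val (Subsingleton.elim
          (⟨_, MulAction.mem_orbit Q (⟨x, hx⟩ : ↥(P : Subgroup G))⟩ : O)
          ⟨Q, MulAction.mem_orbit_self Q⟩)
      have hOp : Nat.card O = p := by
        obtain ⟨i, hi2, hi⟩ := (Nat.dvd_prime_pow hp').mp (Dvd.intro _ hcardO)
        interval_cases i
        · exact absurd (by simpa using hi) hne1
        · simpa using hi
        · rw [hi] at hle
          nlinarith
      have hfQ : Nat.card (f Q) = p :=
        Nat.eq_of_mul_eq_mul_left hp'.pos (by rw [← hOp, hcardO, hOp, sq])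
      refine ⟨hfQ, ?_⟩
      conv_lhs => rw [← hOp, Nat.card_eq_fintype_card, ← Set.toFinset_card]
      refine Finset.card_le_card fun R hR => Finset.mem_filter.mpr ⟨hsub hR, ?_⟩
      rw [Set.mem_toFinset] at hR
      obtain ⟨x, rfl⟩ := hR
      have := MulAction.stabilizer_smul_eq_stabilizer_map_conj x Q
      rw [stabilizer_eq, stabilizer_eq] at this
      have h2 : (f Q).subgroupOf (P : Subgroup G) =
          (f (x • Q)).subgroupOf (P : Subgroup G) := by
        rw [show (f (x • Q)).subgroupOf (P : Subgroup G) = _ from this]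
        ext y
        simp only [Subgroup.mem_map, MulEquiv.coe_toMonoidHom, MulAut.conj_apply]
        constructor
        · intro hy
          exact ⟨y, hy, by rw [hPc.is_comm.comm x y, mul_inv_cancel_right]⟩
        · rintro ⟨z, hz, rfl⟩
          rwa [hPc.is_comm.comm x z, mul_inv_cancel_right]
      have h3 := congrArg (Subgroup.map (P : Subgroup G).subtype) h2
      rw [Subgroup.map_subgroupOf_eq_of_le inf_le_left,
        Subgroup.map_subgroupOf_eq_of_le inf_le_left] at h3
      exact h3.symm
    -- at least two fibres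
    have hsum : S.card = ∑ A ∈ S.image f, (S.filter fun R => f R = A).card :=
      Finset.card_eq_sum_card_image f S
    have hlb : (S.image f).card * p ≤ S.card := by
      rw [hsum, ← smul_eq_mul]
      refine Finset.card_nsmul_le_sum _ _ _ fun A hA => ?_
      obtain ⟨Q, hQ, rfl⟩ := Finset.mem_image.mp hA
      exact (horb Q hQ).2
    have htwo : (S.image f).card = 2 := by
      have h1 : (S.image f).card ≤ 2 := Nat.le_of_mul_le_mul_right (hlb.trans hScard.le) hp'.pos
      have h2 : (S.image f).card ≠ 1 := by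
        intro h1
        obtain ⟨A, hA⟩ := Finset.card_eq_one.mp h1
        have hSne : S.Nonempty := Finset.card_pos.mp (by omega)
        obtain ⟨Q, hQ⟩ := hSne
        have hcA : Nat.card A = p := by
          rw [← show f Q = A from Finset.mem_singleton.mp (hA ▸ Finset.mem_image_of_mem f hQ)]
          exact (horb Q hQ).1
        have : A = ⊥ := by
          rw [eq_bot_iff]
          intro a ha
          refine Subgroup.mem_bot.mpr (hG.faithful a fun R => ?_)
          apply Sylow.smul_eq_iff_mem_normalizer.mpr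
          apply Subgroup.le_normalizer
          by_cases hR : R = P
          · subst hR
            rw [← show f Q = A from Finset.mem_singleton.mp (hA ▸ Finset.mem_image_of_mem f hQ)] at ha
            exact ha.1
          · rw [← show f R = A from Finset.mem_singleton.mp (hA ▸ Finset.mem_image_of_mem f
              (Finset.mem_erase.mpr ⟨hR, Finset.mem_univ _⟩))] at ha
            exact ha.2
        rw [this, Subgroup.card_bot] at hcA
        exact hp'.one_lt.ne hcA
      have h3 : (S.image f).card ≠ 0 := by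
        rw [Finset.card_ne_zero, Finset.image_nonempty]
        exact Finset.card_pos.mp (by omega)
      omega
    have hfib : ∀ A ∈ S.image f, (S.filter fun R => f R = A).card = p := by
      have hge : ∀ A ∈ S.image f, p ≤ (S.filter fun R => f R = A).card := fun A hA => by
        obtain ⟨Q, hQ, rfl⟩ := Finset.mem_image.mp hA
        exact (horb Q hQ).2
      intro A hA
      refine ((Finset.sum_eq_sum_iff_of_le hge).mp ?_ A hA).symm
      rw [← hsum, Finset.sum_const, htwo, smul_eq_mul, hScard]
    rw [← htwo]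
    congr 1
    ext A
    simp only [Finset.bipartiteBelow, h𝒜, Finset.mem_filter, Finset.mem_univ, true_and,
      Finset.mem_image]
    constructor
    · rintro ⟨⟨hA, hpts⟩, hAP⟩
      have hAP' : P ∈ pts A := by simp [pts, hAP]
      obtain ⟨Q, hQ, hne⟩ := Finset.exists_mem_ne (s := pts A) (by omega) P
      refine ⟨Q, Finset.mem_erase.mpr ⟨hne, Finset.mem_univ _⟩, ?_⟩
      refine (Subgroup.eq_of_le_of_card_ge (le_inf hAP (Finset.mem_filter.mp hQ).2) ?_).symm
      show Nat.card (f Q) ≤ Nat.card A
      rw [(horb Q (Finset.mem_erase.mpr ⟨hne, Finset.mem_univ _⟩)).1, hA]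
    · rintro ⟨Q, hQ, rfl⟩
      refine ⟨⟨(horb Q hQ).1, ?_⟩, inf_le_left⟩
      have : pts (f Q) = insert P (S.filter fun R => f R = f Q) := by
        ext R
        simp only [pts, Finset.mem_filter, Finset.mem_univ, true_and, Finset.mem_insert]
        constructor
        · intro hR
          by_cases hRP : R = P
          · exact Or.inl hRP
          · have hRS : R ∈ S := Finset.mem_erase.mpr ⟨hRP, Finset.mem_univ _⟩
            refine Or.inr ⟨hRS, (Subgroup.eq_of_le_of_card_ge (le_inf inf_le_left hR) ?_).symm⟩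
            show Nat.card (f R) ≤ _
            rw [(horb R hRS).1, (horb Q hQ).1]
        · rintro (rfl | ⟨_, hR⟩)
          · exact inf_le_left
          · exact hR ▸ inf_le_right
      rw [this, Finset.card_insert_of_notMem (by simp [hS]), hfib _ (Finset.mem_image_of_mem f hQ)]
  have hdc := Finset.sum_card_bipartiteAbove_eq_sum_card_bipartiteBelow
    (s := 𝒜) (t := (Finset.univ : Finset (Sylow p G))) fun (A : Subgroup G) (Q : Sylow p G) => A ≤ (Q : Subgroup G)
  rw [Finset.sum_congr rfl (fun P _ => key P), Finset.sum_congr rfl (fun A hA =>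
    show (Finset.bipartiteAbove _ _ A).card = p + 1 from (Finset.mem_filter.mp hA).2.2),
    Finset.sum_const, Finset.sum_const, Finset.card_univ, hn, smul_eq_mul, smul_eq_mul] at hdc
  have : p + 1 ∣ 2 := by
    have h1 : p + 1 ∣ (2 * p + 1) * 2 + 2 := by
      rw [show (2 * p + 1) * 2 + 2 = (p + 1) * 4 by ring]; exact Dvd.intro _ rfl
    exact (Nat.dvd_add_right ⟨𝒜.card, by rw [← hdc]; ring⟩).mp h1
  have := Nat.le_of_dvd two_pos this
  have := hp'.two_le
  omega

/-- An odd permutation in a configuration is impossible. -/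
theorem sign_eq_one [Fact p.Prime] (hp : p ≠ 2) (hG : Config G p) [Fintype (Sylow p G)]
    [DecidableEq (Sylow p G)] (g : G) : Equiv.Perm.sign (MulAction.toPermHom G (Sylow p G) g) = 1 := by
  haveI := hG.fin
  set φ := Equiv.Perm.sign.comp (MulAction.toPermHom G (Sylow p G)) with hφ
  have h1 : φ.ker = ⊤ := by
    refine hG.normal _ inferInstance fun hd => ?_
    rw [Subgroup.index_ker] at hd
    have h2 : Nat.card φ.range ∣ 2 := by
      refine (Subgroup.card_subgroup_dvd_card _).trans ?_
      rw [Nat.card_eq_fintype_card]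
      exact dvd_of_eq (by decide)
    exact hp ((Nat.prime_dvd_prime_iff_eq Fact.out Nat.prime_two).mp (hd.trans h2))
  exact MonoidHom.mem_ker.mp (h1 ▸ Subgroup.mem_top g : g ∈ φ.ker)

theorem centralizer_eq [Fact p.Prime] (hp : p ≠ 2) (hG : Config G p) (P : Sylow p G)
    (hP : Nat.card ↥(P : Subgroup G) = p) :
    Subgroup.centralizer ((P : Subgroup G) : Set G) = (P : Subgroup G) := by
  classical
  haveI := hG.fin
  have hp' := (Fact.out : p.Prime)
  haveI : Fintype (Sylow p G) := Fintype.ofFinite _
  have hn : Fintype.card (Sylow p G) = 2 * p + 1 := by rw [← Nat.card_eq_fintype_card, hG.card]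
  haveI : IsCyclic ↥(P : Subgroup G) := isCyclic_of_prime_card hP
  set C := Subgroup.centralizer ((P : Subgroup G) : Set G) with hC
  have hPC : (P : Subgroup G) ≤ C := P.le_centralizer
  have hfixP : ∀ c ∈ C, c • P = P := fun c hc =>
    Sylow.smul_eq_iff_mem_normalizer.mpr (Subgroup.centralizer_le_normalizer _ hc)
  by_contra hne
  -- a prime-order element of the centralizer outside `P`
  have : ∃ r : ℕ, r.Prime ∧ r ≠ p ∧ r ∣ Nat.card C := by
    by_contra hcon
    push Not at hcon
    apply hne
    refine P.3 (IsPGroup.iff_card.mpr ⟨(Nat.card C).primeFactorsList.length,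
      Nat.eq_prime_pow_of_unique_prime_dvd Nat.card_pos.ne' fun {d} hd hdd => ?_⟩) hPC
    by_contra hdp
    exact hcon d hd hdp hdd
  obtain ⟨r, hr, hrp, hrC⟩ := this
  haveI := Fact.mk hr
  obtain ⟨⟨c, hc⟩, hcr⟩ := exists_prime_orderOf_dvd_card' (G := C) r hrC
  replace hcr : orderOf c = r := by rw [← hcr, Subgroup.orderOf_mk]
  set O : Sylow p G → Set (Sylow p G) := fun Q => MulAction.orbit ↥(P : Subgroup G) Q
  have hcomm : ∀ d ∈ C, ∀ x : ↥(P : Subgroup G), d * (x : G) = (x : G) * d := fun d hd x =>
    ((Subgroup.mem_centralizer_iff.mp hd) x x.2).symm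
  have hOp : ∀ Q, Q ≠ P → (O Q).ncard = p := by
    intro Q hQ
    have h1 : (O Q).ncard * Nat.card (MulAction.stabilizer ↥(P : Subgroup G) Q) = p := by
      refine Eq.trans ?_ hP
      rw [← Nat.card_coe_set_eq, ← Nat.card_prod,
        Nat.card_congr (MulAction.orbitProdStabilizerEquivGroup ↥(P : Subgroup G) Q)]
    rcases (Nat.dvd_prime hp').mp (Dvd.intro _ h1) with h2 | h2
    · exfalso
      apply hQ
      refine (eq_of_le P Q fun x hx => Sylow.smul_eq_iff_mem_normalizer.mp ?_).symm
      obtain ⟨R, hR⟩ := Set.ncard_eq_one.mp h2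
      have ha : (⟨x, hx⟩ : ↥(P : Subgroup G)) • Q ∈ O Q := MulAction.mem_orbit _ _
      have hb : Q ∈ O Q := MulAction.mem_orbit_self _
      rw [hR, Set.mem_singleton_iff] at ha hb
      exact ha.trans hb.symm
    · exact h2
  -- an element of `C` of order prime to `p` fixes `Q` as soon as it fixes its orbit
  have hfix : ∀ d ∈ C, (orderOf d).Coprime p → ∀ Q, d • Q ∈ O Q → d • Q = Q := by
    intro d hd hdp Q hQ
    obtain ⟨x, hx⟩ := hQ
    have hx' : (x : G) • Q = d • Q := hx
    have hj : ∀ j : ℕ, (d ^ j) • Q = ((x : G) ^ j) • Q := by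
      intro j
      induction j with
      | zero => simp
      | succ j ih =>
        have h1 : Commute ((x : G) ^ j) d :=
          (show Commute (x : G) d from (hcomm d hd x).symm).pow_left j
        rw [pow_succ', mul_smul, ih, ← mul_smul, h1.eq.symm, mul_smul, ← hx', ← mul_smul, ← pow_succ]
    have h2 := hj (orderOf d)
    rw [pow_orderOf_eq_one, one_smul] at h2
    have hxp : orderOf (x : G) ∣ p := by
      rw [Subgroup.orderOf_coe]; exact (orderOf_dvd_natCard x).trans hP.dvd
    rw [← hx']
    have h3 : (x : G) ∈ MulAction.stabilizer G Q := by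
      have h4 : (x : G) ^ orderOf d ∈ MulAction.stabilizer G Q := h2.symm
      obtain ⟨k, hk⟩ := exists_pow_eq_self_of_coprime (hdp.coprime_dvd_right hxp)
      rw [← hk]
      exact pow_mem h4 k
    exact h3
  have hOc : ∀ Q, Q ≠ P → ∀ R ∈ O Q, ∀ d ∈ C, d • Q = Q → d • R = R := by
    rintro Q _ _ ⟨x, rfl⟩ d hd hdQ
    show d • (x : G) • Q = (x : G) • Q
    rw [← mul_smul, hcomm d hd x, mul_smul, hdQ]
  have hPO : ∀ Q, Q ≠ P → P ∉ O Q := by
    rintro Q hQ ⟨x, hx⟩
    apply hQ
    have hx' : (x : G) • Q = P := hx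
    rw [← inv_smul_smul (x : G) Q, hx']
    exact Sylow.smul_eq_iff_mem_normalizer.mpr (inv_mem (Subgroup.le_normalizer x.2))
  have hcov : ∀ Q R, Q ≠ P → R ≠ P → R ∉ O Q → ∀ T, T ≠ P → T ∈ O Q ∨ T ∈ O R := by
    intro Q R hQ hR hRQ T hT
    have hd : Disjoint (O Q) (O R) := by
      rcases MulAction.orbit.eq_or_disjoint (G := ↥(P : Subgroup G)) Q R with h | h
      · exact absurd (Set.ext_iff.mp h R |>.mpr (MulAction.mem_orbit_self R)) hRQ
      · exact h
    have hu : O Q ∪ O R = {T | T ≠ P} := by
      refine Set.eq_of_subset_of_ncard_le ?_ ?_ (Set.toFinite _)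
      · rintro T (h | h) rfl
        · exact hPO Q hQ h
        · exact hPO R hR h
      · rw [Set.ncard_union_eq hd, hOp Q hQ, hOp R hR,
          show {T : Sylow p G | T ≠ P} = ({P} : Set (Sylow p G))ᶜ from rfl, Set.ncard_compl,
          Set.ncard_singleton, hG.card]
        omega
    exact hu.ge hT
  have hcp : (orderOf c).Coprime p := hcr.symm ▸ (Nat.coprime_primes hr hp').mpr hrp
  -- `c` fixes no point other than `P`
  have hmove : ∀ Q, Q ≠ P → c • Q ∉ O Q := by
    intro Q hQ hmem
    have hcQ := hfix c hc hcp Q hmem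
    have hc1 : c = 1 := by
      refine hG.faithful c fun T => ?_
      by_cases hT : T = P
      · exact hT ▸ hfixP c hc
      by_cases hTQ : T ∈ O Q
      · exact hOc Q hQ T hTQ c hc hcQ
      refine hfix c hc hcp T ?_
      have hcT : c • T ≠ P := fun h => hT (smul_left_cancel c (h.trans (hfixP c hc).symm))
      rcases hcov Q T hQ hT hTQ _ hcT with h | h
      · exfalso
        apply hTQ
        have h5 : c • (c • T) = c • T := hOc Q hQ _ h c hc hcQ
        rwa [smul_left_cancel c h5] at h
      · exact h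
    rw [hc1, orderOf_one] at hcr
    exact hr.one_lt.ne hcr
  have hsq : c ^ 2 = 1 := by
    refine hG.faithful _ fun Q => ?_
    by_cases hQ : Q = P
    · exact hQ ▸ hfixP _ (pow_mem hc 2)
    refine hfix _ (pow_mem hc 2) (hcp.coprime_dvd_left (orderOf_pow_dvd 2)) Q ?_
    have hcQ : c • Q ≠ P := fun h => hQ (smul_left_cancel c (h.trans (hfixP c hc).symm))
    have hccQ : c • c • Q ≠ P := fun h => hcQ (smul_left_cancel c (h.trans (hfixP c hc).symm))
    rw [sq, mul_smul]
    rcases hcov Q (c • Q) hQ hcQ (hmove Q hQ) _ hccQ with h | h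
    · exact h
    · exfalso
      obtain ⟨x, hx⟩ := h
      have hx' : (x : G) • c • Q = c • c • Q := hx
      rw [← mul_smul, ← hcomm c hc x, mul_smul] at hx'
      exact hmove Q hQ ⟨x, smul_left_cancel c hx'⟩
  have hσ : Equiv.Perm.sign (MulAction.toPermHom G (Sylow p G) c) = -1 := by
    rw [Equiv.Perm.sign_of_pow_two_eq_one (by rw [← map_pow, hsq, map_one])]
    have hfx : Function.fixedPoints ⇑(MulAction.toPermHom G (Sylow p G) c) = {P} := by
      ext Q
      simp only [Function.mem_fixedPoints, Set.mem_singleton_iff]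
      constructor
      · intro h
        by_contra hQ
        exact hmove Q hQ (by rw [show c • Q = Q from h]; exact MulAction.mem_orbit_self Q)
      · rintro rfl; exact hfixP c hc
    rw [hn]
    simp only [hfx, Fintype.card_unique]
    rw [show (2 * p + 1 - 1) / 2 = p by omega]
    exact Odd.neg_one_pow (hp'.odd_of_ne_two hp)
  rw [sign_eq_one hp hG c] at hσ
  exact absurd hσ (by decide)

theorem card_sylow_ne [Fact p.Prime] (hp : p ≠ 2) (hp5 : p ≠ 5) (h5 : 5 ∣ 2 * p + 1)
    (h25 : ¬ 25 ∣ 2 * p + 1) (hd5 : ¬ 5 ∣ p - 1) [Finite G] :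
    Nat.card (Sylow p G) ≠ 2 * p + 1 := by
  intro hcard
  have hp' := (Fact.out : p.Prime)
  obtain ⟨L, _, hL⟩ := exists_config G hcard
  haveI := hL.fin
  obtain ⟨P⟩ := (inferInstance : Nonempty (Sylow p L))
  have hPp : Nat.card ↥(P : Subgroup L) = p := by
    obtain ⟨i, hi2, hi⟩ := (Nat.dvd_prime_pow hp').mp (card_le_sq hp hL P)
    interval_cases i
    · exfalso
      haveI : (P : Subgroup L).Normal := by
        rw [Subgroup.eq_bot_of_card_eq (P : Subgroup L) (by simpa using hi)]; infer_instance
      have := Sylow.card_eq_index_normalizer P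
      have h1 : (Subgroup.normalizer ((P : Subgroup L) : Set L)).index = 1 := by
        rw [Subgroup.normalizer_eq_top_iff.mpr inferInstance, Subgroup.index_top]
      have h2 := hL.card
      have h3 : Nat.card (Sylow p L) = 1 := this.trans h1
      have := hp'.two_le
      omega
    · simpa using hi
    · exact absurd hi (card_ne_sq hp hL P)
  haveI : IsCyclic ↥(P : Subgroup L) := isCyclic_of_prime_card hPp
  set N := Subgroup.normalizer ((P : Subgroup L) : Set L) with hN
  have hcardG : Nat.card L = (2 * p + 1) * Nat.card N := by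
    rw [← hL.card, Sylow.card_eq_index_normalizer P, mul_comm]
    exact (Subgroup.card_mul_index N).symm
  set φ := (P : Subgroup L).normalizerMonoidHom
  have hker : Nat.card φ.ker = p := by
    rw [Subgroup.normalizerMonoidHom_ker, centralizer_eq hp hL P hPp,
      Nat.card_congr (Subgroup.subgroupOfEquivOfLe Subgroup.le_normalizer).toEquiv, hPp]
  have hd : Nat.card φ.range ∣ p - 1 := by
    refine (Subgroup.card_subgroup_dvd_card _).trans (dvd_of_eq ?_)
    rw [IsCyclic.card_mulAut, hPp, Nat.totient_prime hp']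
  have hNc : Nat.card N = p * Nat.card φ.range := by
    conv_lhs => rw [Subgroup.card_eq_card_quotient_mul_card_subgroup φ.ker,
      Nat.card_congr (QuotientGroup.quotientKerEquivRange φ).toEquiv, hker, mul_comm]
  -- the Sylow 2-subgroups are cyclic
  obtain ⟨S⟩ := (inferInstance : Nonempty (Sylow 2 ↥N))
  have hS : Nat.card ↥((S : Subgroup ↥N).map N.subtype) = 2 ^ (Nat.card L).factorization 2 := by
    rw [Subgroup.card_map_of_injective N.subtype_injective, S.card_eq_multiplicity, hcardG,
      Nat.factorization_mul (by omega) Nat.card_pos.ne', Finsupp.add_apply,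
      Nat.factorization_eq_zero_of_not_dvd (show ¬ 2 ∣ 2 * p + 1 by omega), zero_add]
  let S' : Sylow 2 L := Sylow.ofCard _ hS
  haveI hMcyc : IsCyclic (MulAut ↥(P : Subgroup L)) := by
    haveI : IsCyclic (ZMod (Nat.card ↥(P : Subgroup L)))ˣ := by
      rw [hPp]; exact ZMod.isCyclic_units_prime hp'
    exact isCyclic_of_surjective _ (IsCyclic.mulAutMulEquiv ↥(P : Subgroup L)).symm.surjective
  have hScyc : IsCyclic ↥(S : Subgroup ↥N) := by
    refine isCyclic_of_injective (φ.comp (S : Subgroup ↥N).subtype) ?_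
    rw [← MonoidHom.ker_eq_bot_iff, eq_bot_iff]
    intro s hs
    rw [Subgroup.mem_bot, ← orderOf_eq_one_iff]
    have h1 : orderOf (s : ↥N) ∣ p := hker ▸ Subgroup.orderOf_dvd_natCard φ.ker hs
    obtain ⟨a, ha⟩ := IsPGroup.iff_card.mp S.2
    have h2 : orderOf (s : ↥N) ∣ 2 ^ a := ha ▸ Subgroup.orderOf_dvd_natCard _ s.2
    rw [← Subgroup.orderOf_coe]
    exact Nat.eq_one_of_dvd_coprimes
      (((Nat.coprime_primes hp' Nat.prime_two).mpr hp).pow_right a) h1 h2
  have hS'cyc : IsCyclic ↥(S' : Subgroup L) :=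
    haveI := hScyc
    isCyclic_of_surjective _
      ((S : Subgroup ↥N).equivMapOfInjective N.subtype N.subtype_injective).surjective
  have hodd : ¬ 2 ∣ Nat.card L := by
    intro h2
    have hmin : (Nat.card L).minFac = 2 := Nat.minFac_eq_two_iff _ |>.mpr h2
    have hc := IsCyclic.isComplement' hmin hS'cyc
    have hidx := hc.symm.index_eq_card
    have hS2 : Nat.card ↥(S' : Subgroup L) = 2 ^ (Nat.card L).factorization 2 :=
      S'.card_eq_multiplicity
    have hnd : ¬ p ∣ (MonoidHom.transferSylow S'
        (hS'cyc.normalizer_le_centralizer hmin)).ker.index := by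
      rw [hidx, hS2]
      exact fun h => hp ((Nat.prime_dvd_prime_iff_eq hp' Nat.prime_two).mp (hp'.dvd_of_dvd_pow h))
    have htop := hL.normal _ inferInstance hnd
    rw [htop, Subgroup.index_top, hS2] at hidx
    have := Nat.Prime.factorization_pos_of_dvd Nat.prime_two Nat.card_pos.ne' h2
    exact (Nat.one_lt_two_pow this.ne').ne hidx
  obtain ⟨F⟩ := (inferInstance : Nonempty (Sylow 5 L))
  haveI : Fact (Nat.Prime 5) := ⟨Nat.prime_five⟩
  have hF : Nat.card ↥(F : Subgroup L) = 5 := by
    rw [F.card_eq_multiplicity, hcardG, hNc,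
      Nat.factorization_mul (by omega) (mul_ne_zero hp'.ne_zero Nat.card_pos.ne'),
      Nat.factorization_mul hp'.ne_zero Nat.card_pos.ne', Finsupp.add_apply, Finsupp.add_apply,
      Nat.factorization_eq_zero_of_not_dvd (fun h => hp5
        ((Nat.prime_dvd_prime_iff_eq Fact.out hp').mp h).symm),
      Nat.factorization_eq_zero_of_not_dvd (fun h => hd5 (h.trans hd))]
    have h1 : (2 * p + 1).factorization 5 = 1 := by
      refine le_antisymm ?_ (Nat.Prime.factorization_pos_of_dvd Fact.out (by omega) h5)
      by_contra hc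
      exact h25 (show 5 ^ 2 ∣ 2 * p + 1 from
        (Nat.Prime.pow_dvd_iff_le_factorization Fact.out (by omega)).mpr (by omega))
    rw [h1]; norm_num
  have hNC := normalizer_le_centralizer_of_card (F : Subgroup L) (hF.symm ▸ Nat.prime_five) (by
    rw [hF, show (5 - 1 : ℕ) = 2 ^ 2 from rfl]
    exact ((Nat.prime_two.coprime_iff_not_dvd.mpr hodd).symm).pow_right 2)
  have hc := MonoidHom.ker_transferSylow_isComplement' F hNC
  have hidx := hc.symm.index_eq_card
  have htop := hL.normal _ inferInstance (by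
    rw [hidx, hF]
    exact fun h => hp5 ((Nat.prime_dvd_prime_iff_eq hp' Fact.out).mp h))
  rw [htop, Subgroup.index_top, hF] at hidx
  omega

end CfsgLib.GroupB.SylowNumber
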