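import Cfsg.Agent.Lib.GroupB.Subnormal
import Cfsg.Agent.Lib.GroupB.Cores

/-! Wielandt's zipper lemma and its consequences. -/

set_option autoImplicit false

namespace CfsgLib.GroupB.Zipper

open Subgroup

universe u

variable {G : Type u} [Group G] [Finite G]

theorem card_map_conj (g : G) (A : Subgroup G) :
    Nat.card ↥(A.map (MulAut.conj g).toMonoidHom) = Nat.card A :=
  card_map_of_injective (MulAut.conj g).injective

/-- `A` is subnormal in every proper subgroup containing it. -/
def SubnormalBelow (A : Subgroup G) : Prop :=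
  ∀ H : Subgroup G, A ≤ H → H ≠ ⊤ → (A.subgroupOf H).IsSubnormal

theorem exists_conj_normalizing {A K : Subgroup G} (hAK : A ≤ K) (h : (A.subgroupOf K).IsSubnormal)
    (hn : ¬ K ≤ normalizer (A : Set G)) :
    ∃ B : Subgroup G, B ≤ K ∧ B ≤ normalizer (A : Set G) ∧ A ≤ B ∧
      ∃ g : G, A.map (MulAut.conj g).toMonoidHom ≤ B ∧ A.map (MulAut.conj g).toMonoidHom ≠ A := by
  classical
  -- a maximal subgroup of `K` normalising `A`, subnormal in `K`
  obtain ⟨B, hB, hmax⟩ := Set.Finite.exists_maximal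
    (s := {B : Subgroup K | A.subgroupOf K ≤ B ∧ B.IsSubnormal ∧ B.map K.subtype ≤ normalizer (A : Set G)})
    (Set.toFinite _) ⟨A.subgroupOf K, le_rfl, h, by
      rw [subgroupOf_map_subtype, inf_eq_left.mpr hAK]; exact le_normalizer⟩
  rcases IsSubnormal.iff_eq_top_or_exists.mp hB.2.1 with rfl | ⟨C, hBC, hC, hCn⟩
  · exact absurd (by have := hB.2.2; rwa [← MonoidHom.range_eq_map, range_subtype] at this) hn
  · refine ⟨B.map K.subtype, map_subtype_le _, hB.2.2,
      fun a ha => ⟨⟨a, hAK ha⟩, hB.1 ha, rfl⟩, ?_⟩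
    by_contra hcon
    push Not at hcon
    refine hBC.not_ge (hmax ⟨hB.1.trans hBC.le, hC, ?_⟩ hBC.le)
    rintro _ ⟨c, hc, rfl⟩
    refine Coprime.mem_normalizer_iff_map_conj_eq.mpr (hcon _ ?_)
    rintro _ ⟨a, ha, rfl⟩
    refine ⟨c * ⟨a, hAK ha⟩ * c⁻¹, ?_, rfl⟩
    exact (Coprime.conj_mem_iff (Subnormal.le_normalizer_of_step hBC.le hCn hc)).mpr (hB.1 ha)

theorem subnormalBelow_conj {A : Subgroup G} (h : SubnormalBelow A) (g : G) :
    SubnormalBelow (A.map (MulAut.conj g).toMonoidHom) := by
  intro H hH hne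
  set H' := H.map (MulAut.conj g⁻¹).toMonoidHom with hH'
  have hAH' : A ≤ H' := fun a ha => ⟨g * a * g⁻¹, hH ⟨a, ha, rfl⟩, by simp [mul_assoc]⟩
  have hne' : H' ≠ ⊤ := fun e => hne (by
    refine eq_top_iff.mpr fun x _ => ?_
    obtain ⟨y, hy, hyx⟩ := (e.ge (mem_top (g⁻¹ * x * g)) : g⁻¹ * x * g ∈ H')
    have : y = x := by simpa [mul_assoc] using hyx
    exact this ▸ hy)
  let f : H →* H' :=
    { toFun := fun x => ⟨g⁻¹ * x * g, x, x.2, by simp⟩
      map_one' := by ext; simp
      map_mul' := fun x y => by ext; simp [mul_assoc] }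
  have := (h H' hAH' hne').comap f
  convert this using 1
  ext x
  constructor
  · rintro ⟨a, ha, hax⟩
    show g⁻¹ * (x : G) * g ∈ A
    have : a = g⁻¹ * (x : G) * g := by
      have h1 : g * a * g⁻¹ = (x : G) := hax
      rw [← h1]; group
    exact this ▸ ha
  · intro hx
    exact ⟨g⁻¹ * (x : G) * g, hx, by simp [mul_assoc]⟩

/-- **Wielandt's zipper lemma.** -/
theorem zipper (n : ℕ) : ∀ A : Subgroup G, Nat.card G - Nat.card A = n → SubnormalBelow A →
    ¬ A.IsSubnormal → ∃ M : Subgroup G, IsCoatom M ∧ A ≤ M ∧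
      ∀ H : Subgroup G, A ≤ H → H ≠ ⊤ → H ≤ M := by
  classical
  induction n using Nat.strong_induction_on with
  | _ n ih =>
    intro A hn hA hns
    have hN : normalizer (A : Set G) ≠ ⊤ := fun e => hns (normalizer_eq_top_iff.mp e).isSubnormal
    obtain ⟨M, hM, hNM⟩ := (eq_top_or_exists_le_coatom (normalizer (A : Set G))).resolve_left hN
    refine ⟨M, hM, le_normalizer.trans hNM, fun H hAH hH => ?_⟩
    obtain ⟨K, hK, hHK⟩ := (eq_top_or_exists_le_coatom H).resolve_left hH
    suffices K = M from this ▸ hHK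
    have hAK := hAH.trans hHK
    by_cases hKn : K ≤ normalizer (A : Set G)
    · exact ((hK.le_iff.mp (hKn.trans hNM)).resolve_left hM.ne_top).symm
    obtain ⟨B, hBK, hBN, hAB, g, hgB, hgne⟩ := exists_conj_normalizing hAK (hA K hAK hK.ne_top) hKn
    set A' := A.map (MulAut.conj g).toMonoidHom with hA'
    have hlt : A < A ⊔ A' := by
      refine lt_of_le_of_ne le_sup_left fun e => hgne ?_
      refine eq_of_le_of_card_ge (e.symm ▸ (le_sup_right : A' ≤ A ⊔ A')) ?_
      rw [hA', card_map_conj]
    have hsubN : A ⊔ A' ≤ normalizer (A : Set G) := (sup_le hAB hgB).trans hBN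
    have hC : SubnormalBelow (A ⊔ A') := by
      intro X hX hXne
      rw [subgroupOf_sup (le_sup_left.trans hX) (le_sup_right.trans hX)]
      exact Subnormal.sup (hA X (le_sup_left.trans hX) hXne)
        (subnormalBelow_conj hA g X (le_sup_right.trans hX) hXne)
    have hCns : ¬ (A ⊔ A').IsSubnormal := fun hs =>
      hns (IsSubnormal.step A _ hlt.le hs ((normal_subgroupOf_iff_le_normalizer hlt.le).mpr hsubN))
    have hcard : Nat.card A < Nat.card ↥(A ⊔ A') :=
      lt_of_le_of_ne (card_le_of_le hlt.le) fun e => hlt.ne (eq_of_le_of_card_ge hlt.le e.ge)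
    have hcard' : Nat.card ↥(A ⊔ A') ≤ Nat.card G := card_le_card_group _
    obtain ⟨M', hM', -, hu⟩ := ih _ (by omega) (A ⊔ A') rfl hC hCns
    have hCK : A ⊔ A' ≤ K := sup_le hAK (hgB.trans hBK)
    have hMM' := hu M (hsubN.trans hNM) hM.ne_top
    have hKM' := hu K hCK hK.ne_top
    rw [← (hK.le_iff.mp hKM').resolve_left hM'.ne_top, ← (hM.le_iff.mp hMM').resolve_left hM'.ne_top]

theorem exists_unique_coatom {A : Subgroup G} (hA : SubnormalBelow A) (hns : ¬ A.IsSubnormal) :
    ∃ M : Subgroup G, IsCoatom M ∧ A ≤ M ∧ ∀ H : Subgroup G, A ≤ H → H ≠ ⊤ → H ≤ M :=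
  zipper _ A rfl hA hns

/-- If every conjugate of `A` lies in the unique maximal subgroup, `A` is subnormal. -/
theorem not_mem_forall_conj {A M : Subgroup G} (hA : SubnormalBelow A) (hns : ¬ A.IsSubnormal)
    (hM : IsCoatom M) : ∃ x : G, ∃ a ∈ A, x * a * x⁻¹ ∉ M := by
  by_contra hcon
  push Not at hcon
  have hle : Subgroup.normalClosure (A : Set G) ≤ M := by
    rw [normalClosure, closure_le]
    intro y hy
    obtain ⟨a, ha, hay⟩ := Group.mem_conjugatesOfSet_iff.mp hy
    obtain ⟨c, rfl⟩ := isConj_iff.mp hay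
    exact hcon c a ha
  refine hns (Subnormal.of_subgroupOf (normalClosure_normal.isSubnormal) subset_normalClosure ?_)
  exact hA _ subset_normalClosure fun e => hM.ne_top (top_le_iff.mp (e ▸ hle))

/-- Wielandt's criterion for subnormality. -/
theorem isSubnormal_of_criterion {A : Subgroup G}
    (h : ∀ a ∈ A, ∀ g : G,
      (A.subgroupOf (A ⊔ A.map (MulAut.conj (g⁻¹ * a * g)).toMonoidHom)).IsSubnormal) :
    A.IsSubnormal := by
  induction hn : Nat.card G using Nat.strong_induction_on generalizing G with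
  | _ n ih =>
    by_contra hns
    have hA : SubnormalBelow A := by
      intro H hAH hH
      refine ih _ (hn ▸ lt_of_le_of_ne (card_le_card_group H) fun e => hH (eq_top_of_card_eq H e))
        (G := H) ?_ rfl
      intro a ha g
      set J := A.subgroupOf H ⊔ (A.subgroupOf H).map (MulAut.conj (g⁻¹ * a * g)).toMonoidHom
      set J' := A ⊔ A.map (MulAut.conj ((g : G)⁻¹ * a * g)).toMonoidHom
      have hmap : J.map H.subtype = J' := by
        rw [Subgroup.map_sup, subgroupOf_map_subtype, inf_eq_left.mpr hAH, map_map]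
        congr 1
        conv_rhs => rw [← inf_eq_left.mpr hAH, ← subgroupOf_map_subtype, map_map]
        congr 1
      let f : J →* J' := ((H.subtype.comp J.subtype).codRestrict J' fun x => hmap ▸ ⟨x, x.2, rfl⟩)
      exact (h a ha (g : G)).comap f
    obtain ⟨M, hM, hAM, hu⟩ := exists_unique_coatom hA hns
    obtain ⟨x, a, ha, hx⟩ := not_mem_forall_conj hA hns hM
    set u := x * a * x⁻¹ with hu'
    set J := A ⊔ A.map (MulAut.conj u).toMonoidHom
    have hJ := h a ha x⁻¹
    rw [inv_inv] at hJ
    by_cases hJt : J = ⊤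
    · refine hns (Subnormal.of_subgroupOf (N := J) (hJt ▸ IsSubnormal.top) le_sup_left hJ)
    have hJM : A.map (MulAut.conj u).toMonoidHom ≤ M := le_sup_right.trans (hu J le_sup_left hJt)
    have hA' : A ≤ M.map (MulAut.conj u⁻¹).toMonoidHom := fun y hy =>
      ⟨u * y * u⁻¹, hJM ⟨y, hy, rfl⟩, by simp [mul_assoc]⟩
    have hne : M.map (MulAut.conj u⁻¹).toMonoidHom ≠ ⊤ := fun e => hM.ne_top (by
      refine eq_top_of_card_eq _ ?_
      rw [← card_map_conj u⁻¹ M, e, card_top])
    have hMe : M.map (MulAut.conj u⁻¹).toMonoidHom = M :=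
      eq_of_le_of_card_ge (hu _ hA' hne) (card_map_conj u⁻¹ M).ge
    have huN : u ∈ normalizer (M : Set G) :=
      inv_mem_iff.mp (Coprime.mem_normalizer_iff_map_conj_eq.mpr hMe)
    rcases eq_or_ne (normalizer (M : Set G)) ⊤ with e | e
    · haveI := normalizer_eq_top_iff.mp e
      exact hx (this.conj_mem a (hAM ha) x)
    · exact hx ((hM.le_iff.mp le_normalizer).resolve_left e ▸ huN)

/-- The iterated right commutator. -/
def iter (g x : G) (n : ℕ) : G := (List.replicate n g).foldl (fun a b => a * b * a⁻¹ * b⁻¹) x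

/-- A left Engel element of a finite group lies in the Fitting subgroup (Baer). -/
theorem mem_fitting_of_engel {g : G} (h : ∀ x : G, ∃ n : ℕ, iter g x n = 1) :
    g ∈ Cfsg.fittingSubgroup G := by
  suffices hs : (zpowers g).IsSubnormal by
    refine Cores.subnormal_le_fitting hs ?_ (mem_zpowers g)
    letI : CommGroup ↥(zpowers g) := IsCyclic.commGroup
    exact CommGroup.isNilpotent
  induction hn : Nat.card G using Nat.strong_induction_on generalizing G with
  | _ n ih =>
    by_contra hns
    have hA : SubnormalBelow (zpowers g) := by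
      intro H hgH hH
      have hg : g ∈ H := hgH (mem_zpowers g)
      have heq : (zpowers g).subgroupOf H = zpowers (⟨g, hg⟩ : H) := by
        refine map_injective H.subtype_injective ?_
        rw [subgroupOf_map_subtype, inf_eq_left.mpr hgH, MonoidHom.map_zpowers]; rfl
      rw [heq]
      refine ih _ (hn ▸ lt_of_le_of_ne (card_le_card_group H) fun e => hH (eq_top_of_card_eq H e))
        (g := ⟨g, hg⟩) ?_ rfl
      intro x
      obtain ⟨m, hm⟩ := h x
      refine ⟨m, Subtype.ext ?_⟩
      have key : ∀ k, ((iter (⟨g, hg⟩ : H) x k : H) : G) = iter g (x : G) k := by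
        intro k
        induction k with
        | zero => rfl
        | succ k hk =>
          simp only [iter, List.replicate_succ', List.foldl_append, List.foldl_cons, List.foldl_nil] at hk ⊢
          simp [hk]
      rw [key, hm]; rfl
    obtain ⟨M, hM, hgM, hu⟩ := exists_unique_coatom hA hns
    obtain ⟨x, a, ha, hx⟩ := not_mem_forall_conj hA hns hM
    have hgM' : g ∈ M := hgM (mem_zpowers g)
    -- the last iterated commutator of `x` outside `M`
    have hxM : x ∉ M := fun hxM => hx (mul_mem (mul_mem hxM (hgM ha)) (inv_mem hxM))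
    obtain ⟨m, hm⟩ := h x
    classical
    have hex : ∃ k, iter g x k ∈ M := ⟨m, hm ▸ M.one_mem⟩
    obtain ⟨k, hk⟩ : ∃ k, Nat.find hex = k + 1 :=
      ⟨Nat.find hex - 1, (Nat.succ_pred_eq_of_ne_zero fun h0 => hxM (by
        have := Nat.find_spec hex; rwa [h0] at this)).symm⟩
    set y := iter g x k with hy
    have hyM : y ∉ M := Nat.find_min hex (by omega)
    have hyg : y * g * y⁻¹ ∈ M := by
      have := Nat.find_spec hex
      rw [hk] at this
      simp only [iter, List.replicate_succ', List.foldl_append, List.foldl_cons, List.foldl_nil] at this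
      have h2 := mul_mem this hgM'
      simpa [hy, iter, mul_assoc] using h2
    have hA' : zpowers g ≤ M.map (MulAut.conj y⁻¹).toMonoidHom :=
      zpowers_le.mpr ⟨y * g * y⁻¹, hyg, by simp [mul_assoc]⟩
    have hne : M.map (MulAut.conj y⁻¹).toMonoidHom ≠ ⊤ := fun e => hM.ne_top (by
      refine eq_top_of_card_eq _ ?_
      rw [← card_map_conj y⁻¹ M, e, card_top])
    have hMe : M.map (MulAut.conj y⁻¹).toMonoidHom = M :=
      eq_of_le_of_card_ge (hu _ hA' hne) (card_map_conj y⁻¹ M).ge
    have hyN : y ∈ normalizer (M : Set G) :=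
      inv_mem_iff.mp (Coprime.mem_normalizer_iff_map_conj_eq.mpr hMe)
    rcases eq_or_ne (normalizer (M : Set G)) ⊤ with e | e
    · haveI := normalizer_eq_top_iff.mp e
      exact hx (this.conj_mem a (hgM ha) x)
    · exact hyM ((hM.le_iff.mp le_normalizer).resolve_left e ▸ hyN)

end CfsgLib.GroupB.Zipper
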